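import Groth.Agent.Lib.RightAdjCoh.Dual
import Groth.Agent.H83.ProjPCCrit.Main
import Groth.Agent.Lib.ProjCoh.SerreDual
import Groth.Agent.Lib.SchColim29.RpushPerfect
import Groth.Agent.Lib.GenBdd.Main

/-!
# The right adjoint for `P^n_R → Spec R` preserves bounded coherent objects
-/

set_option autoImplicit false
set_option linter.unusedSectionVars false
set_option linter.style.haveILetI false

universe u

open CategoryTheory Limits AlgebraicGeometry Pretriangulated Filter

attribute [local instance] HasDerivedCategory.standard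

namespace Groth.Agent.Lib.RightAdjCoh

open Groth.Agent.Lib DerivedOX Groth.Agent.H83.ProjPCCrit Groth.Agent.H83.AmpleGen

variable {n : ℕ} {R : Type u} [CommRing R]

/-- Negative twists receive no maps from shifts of `O`. -/
theorem hom_one_twist_neg (hn : 0 < n) {k : ℤ} (hk : -(n : ℤ) ≤ k) (hk' : k < 0) (m s : ℤ)
    (φ : (CompactUnit.oneD (CohB1.ProjSpace n R))⟦m⟧ ⟶ (DCoh.inD (CohB1.ProjSpace n R) (PT n R k))⟦s⟧) :
    φ = 0 := by
  rcases lt_trichotomy m s with h | h | h
  · exact hom_one_twist_eq_zero n R hk m s h φ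
  · subst h
    refine (cancel_mono ((shiftFunctor (DCoh.D (CohB1.ProjSpace n R)) m).map
      ((DerivedCategory.singleFunctor _ 0).map (ProjCoh.Coherent.twIso k).hom))).1 ?_
    rw [zero_comp]
    obtain ⟨ψ, hψ⟩ := (shiftFunctor (DCoh.D (CohB1.ProjSpace n R)) m).map_surjective
      (φ ≫ (shiftFunctor (DCoh.D (CohB1.ProjSpace n R)) m).map
        ((DerivedCategory.singleFunctor _ 0).map (ProjCoh.Coherent.twIso k).hom))
    obtain ⟨χ, rfl⟩ := (DerivedCategory.singleFunctor _ 0).map_surjective ψ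
    have hz := ProjCoh.SerreDual.subsingleton_HH_zero_neg (n := n) (R := R) hn hk'
    have he : Subsingleton (Abelian.Ext.{u} (Coh.structureModule (CohB1.ProjSpace n R))
        (ProjCoh.Sections.TS n R k) 0) :=
      (ExtHH.Basic.extUnitEquiv R (ProjCoh.Sections.TS n R k) 0).injective.subsingleton
    have hh : Subsingleton (Coh.structureModule (CohB1.ProjSpace n R) ⟶ ProjCoh.Sections.TS n R k) :=
      Abelian.Ext.addEquiv₀.symm.injective.subsingleton
    rw [← hψ, Subsingleton.elim χ 0, Functor.map_zero, Functor.map_zero]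
  · haveI : ((CompactUnit.oneD (CohB1.ProjSpace n R))⟦m⟧).IsLE (-m) :=
      (DerivedCategory.isLE_iff _ _).2 fun i hi => PerfVanish.Thms.isZero_HD_shift
        (DerivedCategory.isZero_of_isLE (DCoh.inD _ _) 0 (m + i) (by omega))
    haveI : ((DCoh.inD (CohB1.ProjSpace n R) (PT n R k))⟦s⟧).IsGE (-s) :=
      (DerivedCategory.isGE_iff _ _).2 fun i hi => PerfVanish.Thms.isZero_HD_shift
        (DerivedCategory.isZero_of_isGE (DCoh.inD _ _) 0 (s + i) (by omega))
    exact DerivedCategory.TStructure.t.zero φ (-m) (-s) (by omega)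

variable [IsNoetherianRing R]

theorem isNoetherian_projSpace : IsNoetherian (CohB1.ProjSpace n R) := by
  let p := CohB1.ProjSpace.toSpec n R
  haveI : IsLocallyNoetherian (CohB1.ProjSpace n R) := LocallyOfFiniteType.isLocallyNoetherian p
  haveI : CompactSpace (CohB1.ProjSpace n R) := QuasiCompact.compactSpace_of_compactSpace p
  exact {}

variable [DCoh.HasRpush (CohB1.ProjSpace.toSpec n R)]
  (hf : DCoh.RpushPreservesQCoh (CohB1.ProjSpace.toSpec n R))
  {a : DCoh.DQCoh (Spec (CommRingCat.of R)) ⥤ DCoh.DQCoh (CohB1.ProjSpace n R)}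
  (adj : DCoh.RpushQ (CohB1.ProjSpace.toSpec n R) hf ⊣ a)

include adj in
/-- Maps into `a K` from an object with vanishing direct image. -/
lemma eq_zero_to_a (K : DCoh.DQCoh (Spec (CommRingCat.of R))) {P : DCoh.D (CohB1.ProjSpace n R)}
    (hP : DCoh.IsQCohD P)
    (h : ∀ ψ : (DCoh.Rpush (CohB1.ProjSpace.toSpec n R)).obj P ⟶ K.obj, ψ = 0)
    (φ : P ⟶ (a.obj K).obj) : φ = 0 := by
  let P' : DCoh.DQCoh (CohB1.ProjSpace n R) := ⟨P, hP⟩
  have h0 : (adj.homEquiv P' K).symm (ObjectProperty.homMk φ) = 0 := ObjectProperty.hom_ext _ (h _)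
  haveI := RightAdjTensor.additive_a _ hf adj
  have h1 : (ObjectProperty.homMk φ : P' ⟶ a.obj K) = 0 := by
    rw [← (adj.homEquiv P' K).apply_symm_apply (ObjectProperty.homMk φ)]
    refine (congrArg _ h0).trans ?_
    rw [adj.homEquiv_unit, Functor.map_zero, comp_zero]
  exact congrArg (fun t => t.hom) h1

include adj in
/-- The direct images of the positive twists of `a K` vanish. -/
theorem isZero_RT (K : DCoh.DQCoh (Spec (CommRingCat.of R))) {d : ℕ} (hd : 0 < d) (hd' : d ≤ n) :
    IsZero (RT n R (d : ℤ) (a.obj K).obj) := by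
  have hone : DCoh.IsQCohD (CompactUnit.oneD (CohB1.ProjSpace n R)) :=
    Perfect.QCohD.isQCohD_of_isPerfect (Gen43.Affine.isPerfect_oneD' _)
  refine OpenSupport.isZero_of_homology _ fun i => ?_
  refine (hd_iff n R (d : ℤ) (-i) i (by omega) (a.obj K).property).1 fun φ => ?_
  let P := (Tq n R (-(d : ℤ))).obj ((CompactUnit.oneD (CohB1.ProjSpace n R))⟦-i⟧)
  have hO : DCoh.IsQCohD ((CompactUnit.oneD (CohB1.ProjSpace n R))⟦-i⟧) := CompactUnit.qcD_shift _ _ hone
  have hz : IsZero (RT n R (-(d : ℤ)) ((CompactUnit.oneD (CohB1.ProjSpace n R))⟦-i⟧)) := by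
    refine OpenSupport.isZero_of_homology _ fun j => ?_
    refine (hd_iff n R (-(d : ℤ)) (-j) j (by omega) hO).1 fun χ => ?_
    obtain ⟨e⟩ := nonempty_Tq_one n R (-(d : ℤ)) (-i)
    exact (cancel_mono e.hom).1
      ((hom_one_twist_neg (by omega) (by omega) (by omega) (-j) (-i) (χ ≫ e.hom)).trans zero_comp.symm)
  obtain ⟨e⟩ := nonempty_Tq_cancel n R (d : ℤ) (-(d : ℤ)) (add_neg_cancel _) (a.obj K).obj
  have h0 : (Tq n R (-(d : ℤ))).map φ ≫ e.hom = 0 :=
    eq_zero_to_a hf adj K (isQCohD_Tq n R _ hO) (fun ψ => hz.eq_of_src ψ 0) _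
  haveI := faithful_Tq n R (-(d : ℤ))
  apply (Tq n R (-(d : ℤ))).map_injective
  rw [Functor.map_zero]
  exact (cancel_mono e.hom).1 (h0.trans zero_comp.symm)

include adj in
/-- `a` preserves bounded objects with coherent cohomology, for `P^n_R → Spec R`. -/
theorem isCohD_Pn (K : DCoh.DQCoh (Spec (CommRingCat.of R))) (hK : DCoh.IsCohD K.obj) (c b : ℤ)
    [K.obj.IsGE c] [K.obj.IsLE b] : DCoh.IsCohD (a.obj K).obj := by
  haveI := isNoetherian_projSpace (n := n) (R := R)
  let p := CohB1.ProjSpace.toSpec n R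
  haveI : IsNoetherian (Spec (CommRingCat.of R)) := inferInstance
  let M := (a.obj K).obj
  have hM : DCoh.IsQCohD M := (a.obj K).property
  obtain ⟨e0⟩ := nonempty_Tq_zero n R M
  -- the degree zero twist
  have hcoh : DCoh.IsCohD (RT n R 0 M) := fun i => CohBasics.Closure.isCoh_of_iso
    ((DerivedCategory.homologyFunctor _ i).mapIso ((DCoh.Rpush p).mapIso e0)).symm
      (isCohD_Rpush_a p hf adj K hK c i)
  have hbdd : ∃ b', (RT n R 0 M).IsLE b' := by
    haveI : Flat p := inferInstance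
    haveI : LocallyOfFinitePresentation p := inferInstance
    let O := CompactUnit.oneD (CohB1.ProjSpace n R)
    let P := (DCoh.Rpush p).obj O
    have hP : DCoh.IsPerfect P := SchColim29.RpushPerfect.isPerfect_Rpush p (Gen43.Affine.isPerfect_oneD' _)
    have hev : ∀ᶠ i in atTop, GenBdd.Hv P K.obj i := by
      refine GenBdd.hv_of_generator GenBdd.shiftInv_atTop
        (G := CompactUnit.oneD (Spec (CommRingCat.of R))) (Gen43.Affine.isPerfect_oneD' _) (fun E hE h => ?_)
        ?_ hP
      · exact OpenSupport.isZero_of_homology _ fun i =>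
          (forall_hom_eq_zero_iff (A := R) hE i (-i) (by omega)).1 (h (-i))
      · refine eventually_atTop.2 ⟨b + 1, fun i hi φ => ?_⟩
        have hz := (forall_hom_eq_zero_iff (A := R) (CompactUnit.qcD_shift _ i K.property) 0 0 (by omega)).2
          (PerfVanish.Thms.isZero_HD_shift (DerivedCategory.isZero_of_isLE K.obj b (i + 0) (by omega)))
        exact (cancel_epi ((shiftFunctorZero _ ℤ).hom.app _)).1 ((hz _).trans comp_zero.symm)
    obtain ⟨N, hN⟩ := eventually_atTop.1 hev
    refine ⟨N, (DerivedCategory.isLE_iff _ _).2 fun i hi => (hd_iff n R 0 (-i) i (by omega) hM).1 fun φ => ?_⟩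
    refine (cancel_mono e0.hom).1 ((?_ : φ ≫ e0.hom = 0).trans zero_comp.symm)
    refine eq_zero_to_a hf adj K (CompactUnit.qcD_shift _ _ (Perfect.QCohD.isQCohD_of_isPerfect
      (Gen43.Affine.isPerfect_oneD' _))) (fun ψ => ?_) _
    refine (cancel_epi (((DCoh.Rpush p).commShiftIso (-i)).app O).inv).1 ?_
    rw [comp_zero]
    exact PerfVanish.Thms.eq_zero_shift i (hN i hi.le) _
  have hpc : ∀ d : ℕ, d ≤ n → ∀ m : ℤ, DCoh.IsPseudoCoherentD m (RT n R (d : ℤ) M) := fun d hd m => by
    refine (Perfect.PCCoh.isPseudoCoherentD_iff_coh _ (isQCohD_RT n R (d : ℤ) hM) m).2 ?_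
    rcases Nat.eq_zero_or_pos d with rfl | h
    · exact ⟨fun i _ => hcoh i, hbdd⟩
    · have hz := isZero_RT hf adj K h hd
      exact ⟨fun i _ => SchColim29.CohPush.isCoh_of_isZero ((DerivedCategory.homologyFunctor _ i).map_isZero hz),
        0, (DerivedCategory.isLE_iff _ _).2 fun i _ => (DerivedCategory.homologyFunctor _ i).map_isZero hz⟩
  choose! bd hbd using fun (d : ℕ) (hd : d ≤ n) => exists_bound (isQCohD_RT n R (d : ℤ) hM) (hpc d hd)
  obtain ⟨b', hb'⟩ := ((Finset.range (n + 1)).finite_toSet.image bd).bddAbove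
  have hc : Cond n R b' M := ⟨hM, hpc, fun d hd m hm => by
    haveI := hbd d hd
    exact (hd_iff n R (d : ℤ) m (-m) (by omega) hM).2 (DerivedCategory.isZero_of_isLE _ (bd d) _
      (by have := hb' ⟨d, Finset.mem_coe.2 (Finset.mem_range.2 (by omega)), rfl⟩; omega))⟩
  intro i
  by_cases hi : i ≤ b'
  · have h := pc_of_cond (b' + 1 - i).toNat b' M hc
    exact ((Perfect.PCCoh.isPseudoCoherentD_iff_coh M hM _).1 h).1 i (by omega)
  · haveI := isLE_of_hd hM b' hc.2.2
    exact SchColim29.CohPush.isCoh_of_isZero (DerivedCategory.isZero_of_isLE M b' i (by omega))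

end Groth.Agent.Lib.RightAdjCoh
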