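import Groth.Agent.Lib.RightAdjCoh.Basic
import Groth.Agent.Lib.RightAdjCoh.Pn
import Groth.Agent.Lib.WayOut.Bounded
import Groth.Agent.S1767

/-!
# The right adjoint of `Rf_*` preserves `D⁺_Coh` for proper `f`
-/

set_option autoImplicit false
set_option linter.unusedSectionVars false
set_option linter.style.haveILetI false

universe u

open CategoryTheory Limits AlgebraicGeometry Pretriangulated

attribute [local instance] HasDerivedCategory.standard

namespace Groth.Agent.Lib.RightAdjCoh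

open Groth.Agent.Lib DerivedOX Gen43.Restrict RightAdjTensor

variable {X Y : Scheme.{u}}

/-- `a` preserves boundedness below. -/
theorem isGE_a [CompactSpace X] [QuasiSeparatedSpace X] [CompactSpace Y] [QuasiSeparatedSpace Y]
    (f : X ⟶ Y) [DCoh.HasRpush f] (hf : DCoh.RpushPreservesQCoh f)
    {a : DCoh.DQCoh Y ⥤ DCoh.DQCoh X} (adj : DCoh.RpushQ f hf ⊣ a) :
    ∃ N : ℕ, ∀ (K : DCoh.DQCoh Y) (c : ℤ), K.obj.IsGE c → (a.obj K).obj.IsGE (c - N) := by
  obtain ⟨N, hN⟩ := Groth.Agent.S1767.result X Y f hf a adj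
  exact ⟨N, fun K c hc => (DerivedCategory.isGE_iff _ _).2 fun i hi =>
    hN K (c - 1) (fun j hj => (DerivedCategory.isGE_iff _ _).1 hc j (by omega)) i (by omega)⟩

/-- Coherence, as a property of modules. -/
def cohP (X : Scheme.{u}) : ObjectProperty X.Modules := fun M => Coh.IsCoh M

instance cohP_iso (X : Scheme.{u}) : (cohP X).IsClosedUnderIsomorphisms :=
  ⟨fun e h => CohBasics.Closure.isCoh_of_iso e h⟩

instance cohP_zero (X : Scheme.{u}) [IsLocallyNoetherian X] : (cohP X).ContainsZero :=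
  ⟨⟨_, isZero_zero X.Modules, SchColim29.CohPush.isCoh_of_isZero (isZero_zero _)⟩⟩

/-- An immersion which is closed and dominant onto an open. -/
lemma eq_preimage {U I Z : Scheme.{u}} (t : U ⟶ I) [IsDominant t] (π : I ⟶ Z) [IsSeparated π]
    (O : Z.Opens) (k : U ⟶ (O : Scheme.{u})) [IsClosedImmersion k] (h : t ≫ π = k ≫ O.ι) :
    Set.range t.base = ((π ⁻¹ᵁ O : I.Opens) : Set I) := by
  have hsub : Set.range t.base ⊆ ((π ⁻¹ᵁ O : I.Opens) : Set I) := by
    rintro _ ⟨u, rfl⟩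
    change π.base (t.base u) ∈ O
    rw [← Scheme.Hom.comp_apply, h, Scheme.Hom.comp_apply]
    exact (k.base u).2
  refine subset_antisymm hsub fun y hy => ?_
  let l : U ⟶ ((π ⁻¹ᵁ O : I.Opens) : Scheme.{u}) :=
    IsOpenImmersion.lift (π ⁻¹ᵁ O).ι t (by simpa using hsub)
  have hl : l ≫ (π ⁻¹ᵁ O).ι = t := IsOpenImmersion.lift_fac _ _ _
  have hlk : l ≫ (π ∣_ O) = k := by
    rw [← cancel_mono O.ι, Category.assoc, morphismRestrict_ι, ← Category.assoc, hl, h]
  haveI : IsSeparated (π ∣_ O) := IsZariskiLocalAtTarget.restrict ‹IsSeparated π› O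
  haveI : IsClosedImmersion (l ≫ (π ∣_ O)) := hlk ▸ ‹IsClosedImmersion k›
  haveI : IsClosedImmersion l := IsClosedImmersion.of_comp l (π ∣_ O)
  by_contra hc
  have hO : IsOpen ((π ⁻¹ᵁ O).ι.base '' (Set.range l.base)ᶜ) :=
    (π ⁻¹ᵁ O).ι.isOpenEmbedding.isOpenMap _ l.isClosedEmbedding.isClosed_range.isOpen_compl
  obtain ⟨w, v, hv, hw⟩ := t.denseRange.exists_mem_open hO
    ⟨y, ⟨y, hy⟩, fun ⟨w, hw⟩ => hc ⟨w, by rw [← hl, Scheme.Hom.comp_apply, hw]; rfl⟩, rfl⟩
  refine hv ⟨w, (π ⁻¹ᵁ O).ι.isOpenEmbedding.injective ?_⟩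
  rw [← Scheme.Hom.comp_apply, hl]
  exact hw.symm

/-- Bounded objects suffice. -/
theorem isCohD_of_bounded [IsNoetherian X] [IsNoetherian Y] (f : X ⟶ Y) [DCoh.HasRpush f]
    (hf : DCoh.RpushPreservesQCoh f) {a : DCoh.DQCoh Y ⥤ DCoh.DQCoh X} (adj : DCoh.RpushQ f hf ⊣ a)
    (H : ∀ (K : DCoh.DQCoh Y) (c b : ℤ) [K.obj.IsGE c] [K.obj.IsLE b],
      DCoh.IsCohD K.obj → DCoh.IsCohD (a.obj K).obj)
    (K : DCoh.DQCoh Y) (hK : CohPlus K.obj) : DCoh.IsCohD (a.obj K).obj := by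
  haveI := additive_a f hf adj
  letI := adj.rightAdjointCommShift ℤ
  haveI := adj.commShift_of_leftAdjoint ℤ
  haveI : a.IsTriangulated := adj.isTriangulated_rightAdjoint
  obtain ⟨N, hN⟩ := isGE_a f hf adj
  obtain ⟨hcoh, c, hc⟩ := hK
  haveI := hc
  intro i
  let k : ℤ := max c (i + N + 3)
  let t : Triangulated.TStructure (DCoh.D Y) := DerivedCategory.TStructure.t
  let K₁ : DCoh.DQCoh Y :=
    ⟨(t.truncLT k).obj K.obj, WayOut.Bounded.hasP_truncLT (P := WayOut.Scheme.qc Y) K.property k⟩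
  have hK₁c : DCoh.IsCohD K₁.obj := WayOut.Bounded.hasP_truncLT (P := cohP Y) hcoh k
  haveI : K₁.obj.IsLE (k - 1) := inferInstanceAs (t.IsLE ((t.truncLT k).obj K.obj) (k - 1))
  haveI : K₁.obj.IsGE c := (DerivedCategory.isGE_iff _ _).2 fun j hj => by
    haveI := WayOut.Bounded.isIso_homologyMap_truncLTι K.obj k j (lt_of_lt_of_le hj (le_max_left _ _))
    exact (DerivedCategory.isZero_of_isGE K.obj c j hj).of_iso
      (asIso ((DerivedCategory.homologyFunctor _ j).map ((t.truncLTι k).app K.obj)))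
  let u : K₁ ⟶ K := ObjectProperty.homMk ((t.truncLTι k).app K.obj)
  obtain ⟨C, q, r, hT⟩ := distinguished_cocone_triangle u
  have hTo := (ObjectProperty.ι (DCoh.IsQCohD (X := Y))).map_distinguished _ hT
  let e := isoTriangleOfIso₁₂ _ _ hTo (t.triangleLTGE_distinguished k K.obj) (Iso.refl _) (Iso.refl _)
    ((Category.comp_id _).trans (Category.id_comp _).symm)
  have hC : C.obj.IsGE k := SupportsBdd.isGE_of_iso
    (inferInstanceAs (t.IsGE ((t.truncGE k).obj K.obj) k)) (Triangle.π₃.mapIso e).symm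
  have hC' : (a.obj C).obj.IsGE (k - N) := hN C k hC
  have hTa := (ObjectProperty.ι (DCoh.IsQCohD (X := X))).map_distinguished _ (a.map_distinguished _ hT)
  let F := DerivedCategory.homologyFunctor X.Modules i
  haveI hepi : Epi (F.map (a.map u).hom) :=
    (DerivedCategory.HomologySequence.epi_homologyMap_mor₁_iff _ hTa i).2
      ((DerivedCategory.isZero_of_isGE (a.obj C).obj (k - N) i (by omega)).eq_of_tgt _ _)
  haveI hmono : Mono (F.map (a.map u).hom) :=
    (DerivedCategory.HomologySequence.mono_homologyMap_mor₁_iff _ hTa (i - 1) i (by omega)).2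
      ((DerivedCategory.isZero_of_isGE (a.obj C).obj (k - N) (i - 1) (by omega)).eq_of_src _ _)
  haveI : IsIso (F.map (a.map u).hom) := isIso_of_mono_of_epi _
  exact CohBasics.Closure.isCoh_of_iso (asIso (F.map (a.map u).hom)) (H K₁ c (k - 1) hK₁c i)

/-- The case of an affine base and a bounded object. -/
theorem isCohD_affine_base (R : Type u) [CommRing R] [IsNoetherianRing R]
    (f : X ⟶ Spec (CommRingCat.of R)) [IsProper f] [DCoh.HasRpush f] (hf : DCoh.RpushPreservesQCoh f)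
    {a : DCoh.DQCoh (Spec (CommRingCat.of R)) ⥤ DCoh.DQCoh X} (adj : DCoh.RpushQ f hf ⊣ a)
    (K : DCoh.DQCoh (Spec (CommRingCat.of R))) (hK : DCoh.IsCohD K.obj) (c b : ℤ)
    [K.obj.IsGE c] [K.obj.IsLE b] : DCoh.IsCohD (a.obj K).obj := by
  haveI : IsLocallyNoetherian X := LocallyOfFiniteType.isLocallyNoetherian f
  haveI : CompactSpace X := QuasiCompact.compactSpace_of_compactSpace f
  haveI : IsNoetherian X := {}
  let M := a.obj K
  obtain ⟨N₀, hN₀⟩ := isGE_a f hf adj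
  have hMb : ∃ c', M.obj.IsGE c' := ⟨_, hN₀ K c inferInstance⟩
  intro i
  refine Perfect.Coherent.isCoh_of_cover fun x => ?_
  obtain ⟨U, hU, hxU, -⟩ := exists_isAffineOpen_mem_and_subset (X := X) (x := x) (U := ⊤) trivial
  refine ⟨U, U.ι, inferInstance, ⟨x, hxU⟩, rfl, ?_⟩
  suffices hgoal : CohPlus ((DCoh.restrictD U.ι).obj M.obj) from
    CohBasics.Closure.isCoh_of_iso (Perfect.Coherent.homologyIso U.ι M.obj i) (hgoal.1 i)
  haveI : IsAffine (U : Scheme.{u}) := hU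
  -- an affine space receiving `U` as a closed subscheme
  obtain ⟨φ, hφ⟩ := Spec.map_surjective ((U : Scheme.{u}).isoSpec.inv ≫ U.ι ≫ f)
  have hφft : φ.hom.FiniteType := by
    have h1 : LocallyOfFiniteType (Spec.map φ) := by rw [hφ]; infer_instance
    exact (HasRingHomProperty.Spec_iff (P := @LocallyOfFiniteType)).1 h1
  letI : Algebra R Γ((U : Scheme.{u}), ⊤) := φ.hom.toAlgebra
  haveI : Algebra.FiniteType R Γ((U : Scheme.{u}), ⊤) := hφft
  obtain ⟨n, σ, hσ⟩ := Algebra.FiniteType.iff_quotient_mvPolynomial''.1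
    (inferInstance : Algebra.FiniteType R Γ((U : Scheme.{u}), ⊤))
  let A := (ProjSpace.Basic.chartι (n := n) R 0).opensRange
  let k₀ : (U : Scheme.{u}) ⟶ Spec (CommRingCat.of (MvPolynomial (Fin n) R)) :=
    (U : Scheme.{u}).isoSpec.hom ≫ Spec.map (CommRingCat.ofHom σ.toRingHom)
  haveI : IsClosedImmersion (Spec.map (CommRingCat.ofHom σ.toRingHom)) :=
    IsClosedImmersion.spec_of_surjective _ hσ
  haveI : IsClosedImmersion k₀ := MorphismProperty.comp_mem @IsClosedImmersion _ _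
    (inferInstance : IsClosedImmersion (U : Scheme.{u}).isoSpec.hom)
    (IsClosedImmersion.spec_of_surjective (CommRingCat.ofHom σ.toRingHom) hσ)
  let k : (U : Scheme.{u}) ⟶ (A : Scheme.{u}) := k₀ ≫ (ProjSpace.Basic.chartι (n := n) R 0).isoOpensRange.hom
  let j : (U : Scheme.{u}) ⟶ CohB1.ProjSpace n R := k ≫ A.ι
  let p := CohB1.ProjSpace.toSpec n R
  have hkf : j ≫ p = U.ι ≫ f := by
    have h1 : CommRingCat.ofHom MvPolynomial.C ≫ CommRingCat.ofHom σ.toRingHom = φ :=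
      CommRingCat.hom_ext (RingHom.ext fun r => σ.commutes r)
    calc j ≫ p = k₀ ≫ ProjSpace.Basic.chartι (n := n) R 0 ≫ p := by
          simp only [j, k, Category.assoc]
          exact congrArg (k₀ ≫ ·) (Scheme.Hom.isoOpensRange_hom_ι_assoc (ProjSpace.Basic.chartι (n := n) R 0) p)
      _ = (U : Scheme.{u}).isoSpec.hom ≫ Spec.map φ := by
          rw [ProjSpace.Basic.chartι_toSpec]
          simp only [k₀, Category.assoc, ← Spec.map_comp]
          exact congrArg (fun t => (U : Scheme.{u}).isoSpec.hom ≫ Spec.map t) h1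
      _ = U.ι ≫ f := by rw [hφ, Iso.hom_inv_id_assoc]
  haveI := isNoetherian_projSpace (n := n) (R := R)
  -- the closure of the graph
  let m : (U : Scheme.{u}) ⟶ pullback f p := pullback.lift U.ι j hkf.symm
  haveI : IsImmersion (m ≫ pullback.fst f p) := by rw [pullback.lift_fst]; infer_instance
  haveI : IsImmersion m := IsImmersion.of_comp m (pullback.fst f p)
  haveI : IsProper (pullback.fst f p) := MorphismProperty.pullback_fst _ _ (inferInstance : IsProper p)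
  haveI : IsProper (pullback.snd f p) := MorphismProperty.pullback_snd _ _ (inferInstance : IsProper f)
  haveI : IsLocallyNoetherian (pullback f p) := LocallyOfFiniteType.isLocallyNoetherian (pullback.fst f p)
  haveI : QuasiCompact m := inferInstance
  let π : m.image ⟶ X := m.imageι ≫ pullback.fst f p
  let g : m.image ⟶ CohB1.ProjSpace n R := m.imageι ≫ pullback.snd f p
  haveI : IsProper π := inferInstance
  haveI : IsProper g := inferInstance
  haveI : IsLocallyNoetherian m.image := LocallyOfFiniteType.isLocallyNoetherian π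
  haveI : CompactSpace m.image := QuasiCompact.compactSpace_of_compactSpace π
  haveI : IsNoetherian m.image := {}
  let t := m.toImage
  haveI : IsOpenImmersion t := inferInstance
  have htπ : t ≫ π = 𝟙 _ ≫ U.ι := by
    rw [Category.id_comp, ← Category.assoc, Scheme.Hom.toImage_imageι, pullback.lift_fst]
  have htg : t ≫ g = k ≫ A.ι := by rw [← Category.assoc, Scheme.Hom.toImage_imageι, pullback.lift_snd]
  have hπU : t.opensRange = π ⁻¹ᵁ U := TopologicalSpace.Opens.ext (eq_preimage t π U (𝟙 _) htπ)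
  have hgA : t.opensRange = g ⁻¹ᵁ A := TopologicalSpace.Opens.ext (eq_preimage t g A k htg)
  have hUA : π ⁻¹ᵁ U = g ⁻¹ᵁ A := hπU.symm.trans hgA
  haveI hisoπ : IsIso (π ∣_ U) := by
    let e := t.isoOpensRange ≪≫ m.image.isoOfEq hπU
    have he : e.hom ≫ (π ∣_ U) = 𝟙 _ := by
      rw [← cancel_mono U.ι, Category.assoc, morphismRestrict_ι]
      simp only [e, Iso.trans_hom, Category.assoc, Scheme.isoOfEq_hom_ι_assoc,
        Scheme.Hom.isoOpensRange_hom_ι_assoc, htπ]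
    rw [show π ∣_ U = e.inv by rw [← cancel_epi e.hom, he, Iso.hom_inv_id]]
    infer_instance
  haveI : IsClosedImmersion (g ∣_ A) := by
    let e := t.isoOpensRange ≪≫ m.image.isoOfEq hgA
    have he : e.hom ≫ (g ∣_ A) = k := by
      rw [← cancel_mono A.ι, Category.assoc, morphismRestrict_ι]
      simp only [e, Iso.trans_hom, Category.assoc, Scheme.isoOfEq_hom_ι_assoc,
        Scheme.Hom.isoOpensRange_hom_ι_assoc, htg]
    rw [show g ∣_ A = e.inv ≫ k by rw [← he, Iso.inv_hom_id_assoc]]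
    infer_instance
  -- the adjoints
  haveI := Exists.hasRpush π
  haveI := Exists.hasRpush g
  haveI := Exists.hasRpush p
  haveI := Exists.hasRpush (π ≫ f)
  haveI := Exists.hasRpush (g ≫ p)
  haveI := Exists.hasRpush (π ∣_ U)
  haveI := Exists.hasRpush (g ∣_ A)
  obtain ⟨bπ, ⟨adjπ⟩⟩ := exists_adj π (preservesQCoh π)
  obtain ⟨bg, ⟨adjg⟩⟩ := exists_adj g (preservesQCoh g)
  obtain ⟨ap, ⟨adjp⟩⟩ := exists_adj p (preservesQCoh p)
  obtain ⟨cπ, ⟨adjcπ⟩⟩ := exists_adj (π ≫ f) (preservesQCoh _)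
  obtain ⟨θ₁⟩ := nonempty_comp_iso π f (preservesQCoh π) hf _ adjπ adj adjcπ
  have hfg : π ≫ f = g ≫ p := by simp only [π, g, Category.assoc, pullback.condition]
  have key : ∀ (h : m.image ⟶ Spec (CommRingCat.of R)), h = g ≫ p → ∀ [DCoh.HasRpush h]
      (hh : DCoh.RpushPreservesQCoh h) (d : DCoh.DQCoh (Spec (CommRingCat.of R)) ⥤ DCoh.DQCoh m.image),
      (DCoh.RpushQ h hh ⊣ d) → Nonempty (ap ⋙ bg ≅ d) := by
    rintro h rfl _ hh d adjd
    exact nonempty_comp_iso g p (preservesQCoh g) (preservesQCoh p) hh adjg adjp adjd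
  obtain ⟨θ₂⟩ := key (π ≫ f) hfg _ cπ adjcπ
  let eMP : (bπ.obj M).obj ≅ (bg.obj (ap.obj K)).obj :=
    (ObjectProperty.ι _).mapIso (θ₁.app K ≪≫ (θ₂.app K).symm)
  obtain ⟨N₁, hN₁⟩ := isGE_a p (preservesQCoh p) adjp
  have hP : CohPlus (ap.obj K).obj :=
    ⟨isCohD_Pn (preservesQCoh p) adjp K hK c b, _, hN₁ K c inferInstance⟩
  haveI : IsNoetherian (A : Scheme.{u}) :=
    { toCompactSpace := isCompact_iff_compactSpace.1 (TopologicalSpace.NoetherianSpace.isCompact _) }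
  haveI : IsNoetherian ((g ⁻¹ᵁ A : m.image.Opens) : Scheme.{u}) :=
    { toCompactSpace := isCompact_iff_compactSpace.1 (TopologicalSpace.NoetherianSpace.isCompact _) }
  obtain ⟨bA, ⟨adjA⟩⟩ := exists_adj (g ∣_ A) (preservesQCoh _)
  obtain ⟨r₁⟩ := nonempty_restrict_iso g (preservesQCoh g) adjg A (preservesQCoh _) adjA (ap.obj K) hP.2
  have h1 : CohPlus ((DCoh.restrictD (g ⁻¹ᵁ A).ι).obj (bg.obj (ap.obj K)).obj) :=
    (cohPlus_closedImmersion (g ∣_ A) _ adjA ((resQ A).obj (ap.obj K)) (hP.restrict A)).of_iso r₁.symm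
  rw [← hUA] at h1
  haveI : IsNoetherian (U : Scheme.{u}) :=
    { toCompactSpace := isCompact_iff_compactSpace.1 hU.isCompact }
  haveI : IsNoetherian ((π ⁻¹ᵁ U : m.image.Opens) : Scheme.{u}) :=
    { toCompactSpace := isCompact_iff_compactSpace.1 (TopologicalSpace.NoetherianSpace.isCompact _) }
  obtain ⟨bU, ⟨adjU⟩⟩ := exists_adj (π ∣_ U) (preservesQCoh _)
  obtain ⟨r₂⟩ := nonempty_restrict_iso π (preservesQCoh π) adjπ U (preservesQCoh _) adjU M hMb
  exact cohPlus_of_iso_mor (π ∣_ U) _ adjU ((resQ U).obj M)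
    (h1.of_iso ((DCoh.restrictD _).mapIso eMP.symm ≪≫ r₂))

/-- The affine case, any affine Noetherian base. -/
theorem isCohD_of_isAffine [IsAffine Y] [IsNoetherian Y] (f : X ⟶ Y) [IsProper f] [DCoh.HasRpush f]
    (hf : DCoh.RpushPreservesQCoh f) {a : DCoh.DQCoh Y ⥤ DCoh.DQCoh X} (adj : DCoh.RpushQ f hf ⊣ a)
    (K : DCoh.DQCoh Y) (hK : CohPlus K.obj) : DCoh.IsCohD (a.obj K).obj := by
  haveI : IsLocallyNoetherian X := LocallyOfFiniteType.isLocallyNoetherian f
  haveI : CompactSpace X := QuasiCompact.compactSpace_of_compactSpace f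
  haveI : IsNoetherian X := {}
  let w := Y.isoSpec
  haveI : IsNoetherianRing Γ(Y, ⊤) := IsLocallyNoetherian.component_noetherian ⟨⊤, isAffineOpen_top Y⟩
  haveI : IsNoetherian (Spec Γ(Y, ⊤)) :=
    inferInstanceAs (IsNoetherian (Spec (CommRingCat.of Γ(Y, ⊤))))
  haveI := Exists.hasRpush w.hom
  haveI := Exists.hasRpush w.inv
  haveI := Exists.hasRpush (w.hom ≫ w.inv)
  haveI := Exists.hasRpush (f ≫ w.hom)
  obtain ⟨e₁, ⟨adj₁⟩⟩ := exists_adj w.inv (preservesQCoh _)
  obtain ⟨e₂, ⟨adj₂⟩⟩ := exists_adj w.hom (preservesQCoh _)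
  obtain ⟨e₃, ⟨adj₃⟩⟩ := exists_adj (w.hom ≫ w.inv) (preservesQCoh _)
  obtain ⟨θ₁⟩ := nonempty_comp_iso w.hom w.inv (preservesQCoh _) (preservesQCoh _) _ adj₂ adj₁ adj₃
  have h3 : ∀ (k : Y ⟶ Y), k = 𝟙 Y → ∀ [DCoh.HasRpush k] (hk : DCoh.RpushPreservesQCoh k)
      (d : DCoh.DQCoh Y ⥤ DCoh.DQCoh Y), (DCoh.RpushQ k hk ⊣ d) → Nonempty (d ≅ 𝟭 _) := by
    rintro k rfl _ hk d adjd
    exact nonempty_id_iso hk adjd
  obtain ⟨θ₃⟩ := h3 (w.hom ≫ w.inv) w.hom_inv_id _ e₃ adj₃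
  obtain ⟨c', ⟨adj'⟩⟩ := exists_adj (f ≫ w.hom) (preservesQCoh _)
  obtain ⟨θ⟩ := nonempty_comp_iso f w.hom hf (preservesQCoh _) _ adj adj₂ adj'
  have h1 : CohPlus (e₁.obj K).obj := cohPlus_closedImmersion w.inv _ adj₁ K hK
  have h := isCohD_of_bounded (f ≫ w.hom) _ adj'
    (fun K c b _ _ hK => isCohD_affine_base Γ(Y, ⊤) (f ≫ w.hom) _ adj' K hK c b) (e₁.obj K) h1
  exact fun i => CohBasics.Closure.isCoh_of_iso ((DerivedCategory.homologyFunctor _ i).mapIso
    ((ObjectProperty.ι _).mapIso ((θ.app (e₁.obj K)).symm ≪≫ a.mapIso ((θ₁ ≪≫ θ₃).app K)))) (h i)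

/-- The right adjoint of `Rf_*` preserves bounded below objects with coherent cohomology. -/
theorem cohPlus_a [IsNoetherian Y] (f : X ⟶ Y) [IsProper f] [DCoh.HasRpush f]
    (hf : DCoh.RpushPreservesQCoh f) {a : DCoh.DQCoh Y ⥤ DCoh.DQCoh X} (adj : DCoh.RpushQ f hf ⊣ a)
    (K : DCoh.DQCoh Y) (hK : CohPlus K.obj) : CohPlus (a.obj K).obj := by
  haveI : IsLocallyNoetherian X := LocallyOfFiniteType.isLocallyNoetherian f
  haveI : CompactSpace X := QuasiCompact.compactSpace_of_compactSpace f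
  haveI : IsNoetherian X := {}
  obtain ⟨N, hN⟩ := isGE_a f hf adj
  refine ⟨fun i => Perfect.Coherent.isCoh_of_cover fun x => ?_, hK.2.elim fun c hc => ⟨_, hN K c hc⟩⟩
  obtain ⟨V, hV, hxV, -⟩ := exists_isAffineOpen_mem_and_subset (X := Y) (x := f.base x) (U := ⊤) trivial
  haveI : IsAffine (V : Scheme.{u}) := hV
  haveI : IsNoetherian (V : Scheme.{u}) :=
    { toCompactSpace := isCompact_iff_compactSpace.1 hV.isCompact }
  haveI : IsNoetherian ((f ⁻¹ᵁ V : X.Opens) : Scheme.{u}) :=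
    { toCompactSpace := isCompact_iff_compactSpace.1 (TopologicalSpace.NoetherianSpace.isCompact _) }
  haveI := Exists.hasRpush (f ∣_ V)
  obtain ⟨b, ⟨adj'⟩⟩ := exists_adj (f ∣_ V) (preservesQCoh _)
  obtain ⟨r⟩ := nonempty_restrict_iso f hf adj V (preservesQCoh _) adj' K hK.2
  have h := isCohD_of_isAffine (f ∣_ V) _ adj' ((resQ V).obj K) (hK.restrict V)
  exact ⟨_, (f ⁻¹ᵁ V).ι, inferInstance, ⟨x, hxV⟩, rfl, CohBasics.Closure.isCoh_of_iso
    ((DerivedCategory.homologyFunctor _ i).mapIso r.symm ≪≫ Perfect.Coherent.homologyIso _ _ i) (h i)⟩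

end Groth.Agent.Lib.RightAdjCoh
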