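import Groth.Agent.Lib.RightAdjTensor.SupportsBdd
import Groth.Agent.Lib.RightAdjTensor.BddCoprod
import Groth.Agent.Lib.ShrinkTri.QCohGen
import Groth.Agent.Lib.DerivedOX.PullComp
import Groth.Agent.Lib.DerivedOX.RpushTriangulated
import Groth.Agent.Lib.RHomO.Main

/-!
# Formal properties of the right adjoint of `Rf_*` on `D_QCoh`: restriction to opens, composition, isomorphisms
-/

set_option autoImplicit false
set_option linter.unusedSectionVars false
set_option linter.style.haveILetI false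

universe u

open CategoryTheory Limits AlgebraicGeometry Pretriangulated

attribute [local instance] HasDerivedCategory.standard

namespace Groth.Agent.Lib.RightAdjCoh

open Groth.Agent.Lib DerivedOX Gen43.Restrict RightAdjTensor

variable {X Y Z : Scheme.{u}}

lemma preservesQCoh (f : X ⟶ Y) [QuasiCompact f] [QuasiSeparated f] [DCoh.HasRpush f] :
    DCoh.RpushPreservesQCoh f := fun K hK => RpushQCoh.isQCohD_Rpush f K hK

/-- Existence of the right adjoint. -/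
theorem exists_adj [CompactSpace X] [QuasiSeparatedSpace X] [CompactSpace Y] [QuasiSeparatedSpace Y]
    (f : X ⟶ Y) [DCoh.HasRpush f] (hf : DCoh.RpushPreservesQCoh f) :
    ∃ a : DCoh.DQCoh Y ⥤ DCoh.DQCoh X, Nonempty (DCoh.RpushQ f hf ⊣ a) := by
  haveI : (DCoh.RpushQ f hf).IsLeftAdjoint := ShrinkTri.QCohGen.isLeftAdjoint_Rpush f hf
  exact ⟨_, ⟨Adjunction.ofIsLeftAdjoint (DCoh.RpushQ f hf)⟩⟩

/-- Restriction to an open on `D_QCoh`. -/
noncomputable abbrev resQ (U : X.Opens) : DCoh.DQCoh X ⥤ DCoh.DQCoh (U : Scheme.{u}) :=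
  ObjectProperty.lift _ (ObjectProperty.ι _ ⋙ DCoh.restrictD U.ι) fun K =>
    CompactUnit.isQCohD_restrictD U.ι K.property

/-- `j^* ⊣ Rj_*` on `D_QCoh`. -/
noncomputable def resPushQ (U : X.Opens) [DCoh.HasRpush U.ι] [QuasiCompact U.ι] :
    resQ U ⊣ Supports.pushU U :=
  (OpenImm.restrictPushAdj U.ι).restrictFullyFaithful (ObjectProperty.fullyFaithfulι _)
    (ObjectProperty.fullyFaithfulι _) (Iso.refl _) (Iso.refl _)

/-- Base change of `Rf_*` to an open, on `D_QCoh`. -/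
noncomputable def bcQ (f : X ⟶ Y) [DCoh.HasRpush f] (hf : DCoh.RpushPreservesQCoh f) (V : Y.Opens)
    [DCoh.HasRpush (f ∣_ V)] (hg : DCoh.RpushPreservesQCoh (f ∣_ V)) :
    DCoh.RpushQ f hf ⋙ resQ V ≅ resQ (f ⁻¹ᵁ V) ⋙ DCoh.RpushQ (f ∣_ V) hg :=
  NatIso.ofComponents
    (fun F => (ObjectProperty.fullyFaithfulι _).preimageIso
      ((RestrictRpush.restrictD_Rpush_iso f V).app F.obj))
    fun {F G} φ => ObjectProperty.hom_ext _
      ((RestrictRpush.restrictD_Rpush_iso f V).hom.naturality φ.hom)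

lemma isGE_push_aux [IsLocallyNoetherian Y] (V : Y.Opens) [DCoh.HasRpush V.ι] [QuasiCompact V.ι]
    (K : DCoh.DQCoh Y) {c : ℤ} (hc : K.obj.IsGE c) :
    ((Supports.pushU V).obj ((resQ V).obj K)).obj.IsGE c := SupportsBdd.isGE_push V hc

/-- The right adjoint commutes with restriction to opens on bounded below objects. -/
theorem nonempty_restrict_iso [IsNoetherian X] [IsNoetherian Y] (f : X ⟶ Y) [IsProper f] [DCoh.HasRpush f]
    (hf : DCoh.RpushPreservesQCoh f) {a : DCoh.DQCoh Y ⥤ DCoh.DQCoh X} (adj : DCoh.RpushQ f hf ⊣ a)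
    (V : Y.Opens) [DCoh.HasRpush (f ∣_ V)] (hg : DCoh.RpushPreservesQCoh (f ∣_ V))
    {b : DCoh.DQCoh (V : Scheme.{u}) ⥤ DCoh.DQCoh ((f ⁻¹ᵁ V : X.Opens) : Scheme.{u})}
    (adj' : DCoh.RpushQ (f ∣_ V) hg ⊣ b) (K : DCoh.DQCoh Y) (hK : ∃ c, K.obj.IsGE c) :
    Nonempty ((DCoh.restrictD (f ⁻¹ᵁ V).ι).obj (a.obj K).obj ≅ (b.obj ((resQ V).obj K)).obj) := by
  let W := f ⁻¹ᵁ V
  haveI := DerivedOX.Exists.hasRpush V.ι
  haveI := DerivedOX.Exists.hasRpush W.ι
  haveI : QuasiCompact V.ι := quasiCompact_ι (TopologicalSpace.NoetherianSpace.isCompact _)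
  haveI : QuasiCompact W.ι := quasiCompact_ι (TopologicalSpace.NoetherianSpace.isCompact _)
  haveI := additive_a f hf adj
  letI := adj.rightAdjointCommShift ℤ
  haveI := adj.commShift_of_leftAdjoint ℤ
  haveI : a.IsTriangulated := adj.isTriangulated_rightAdjoint
  let A₁ := adj.comp (resPushQ V)
  let A₂ := (resPushQ W).comp adj'
  let θ : Supports.pushU V ⋙ a ≅ b ⋙ Supports.pushU W :=
    (A₁.ofNatIsoLeft (bcQ f hf V hg)).rightAdjointUniq A₂
  obtain ⟨c, hc⟩ := hK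
  let η : K ⟶ (Supports.pushU V).obj ((resQ V).obj K) := (resPushQ V).unit.app K
  obtain ⟨C, q, r, hT⟩ := distinguished_cocone_triangle η
  have hTo := (ObjectProperty.ι (DCoh.IsQCohD (X := Y))).map_distinguished _ hT
  -- the unit is invertible over `V`
  have hη : IsIso ((DCoh.restrictD V.ι).map η.hom) := by
    have e : η.hom = Gen43.Restrict.unit V.ι K.obj := by
      simp [η, resPushQ, Adjunction.restrictFullyFaithful]
      exact (OpenImm.restrictPushAdj V.ι).homEquiv_id _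
    rw [e]
    exact isIso_restrict_unit V.ι K.obj
  have hCV : Van V C.obj := (isIso_restrict_iff hTo).1 hη
  have hCb : C.obj.IsGE (c - 1) :=
    SupportsBdd.isGE₃ _ hTo hc (isGE_push_aux V K hc)
  have hv := SupportsBdd.van_a f hf adj (fun M d hd =>
    RightAdjTensor.preservesColimit_of_isGE f hf adj _ d fun _ => hd) C ⟨_, hCb⟩ hCV
  have hTa := (ObjectProperty.ι (DCoh.IsQCohD (X := X))).map_distinguished _ (a.map_distinguished _ hT)
  haveI : IsIso ((DCoh.restrictD W.ι).map (a.map η).hom) := (isIso_restrict_iff hTa).2 hv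
  exact ⟨asIso ((DCoh.restrictD W.ι).map (a.map η).hom) ≪≫
    (DCoh.restrictD W.ι).mapIso ((ObjectProperty.ι _).mapIso (θ.app ((resQ V).obj K))) ≪≫
    (OpenImm.counitIso W.ι).app _⟩

/-- The right adjoint of a composite. -/
theorem nonempty_comp_iso (π : X ⟶ Y) (f : Y ⟶ Z) [DCoh.HasRpush π] [DCoh.HasRpush f]
    [DCoh.HasRpush (π ≫ f)] (hπ : DCoh.RpushPreservesQCoh π) (hf : DCoh.RpushPreservesQCoh f)
    (hc : DCoh.RpushPreservesQCoh (π ≫ f)) {b : DCoh.DQCoh Y ⥤ DCoh.DQCoh X}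
    (adjπ : DCoh.RpushQ π hπ ⊣ b) {a : DCoh.DQCoh Z ⥤ DCoh.DQCoh Y} (adjf : DCoh.RpushQ f hf ⊣ a)
    {c : DCoh.DQCoh Z ⥤ DCoh.DQCoh X} (adjc : DCoh.RpushQ (π ≫ f) hc ⊣ c) : Nonempty (a ⋙ b ≅ c) := by
  let φ : DCoh.RpushQ π hπ ⋙ DCoh.RpushQ f hf ≅ DCoh.RpushQ (π ≫ f) hc :=
    NatIso.ofComponents
      (fun F => (ObjectProperty.fullyFaithfulι _).preimageIso ((PullComp.rpushCompIso π f).app F.obj))
      fun {F G} φ => ObjectProperty.hom_ext _ ((PullComp.rpushCompIso π f).hom.naturality φ.hom)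
  exact ⟨((adjπ.comp adjf).ofNatIsoLeft φ).rightAdjointUniq adjc⟩

/-- The right adjoint of the identity. -/
theorem nonempty_id_iso [DCoh.HasRpush (𝟙 X)] (h : DCoh.RpushPreservesQCoh (𝟙 X))
    {a : DCoh.DQCoh X ⥤ DCoh.DQCoh X} (adj : DCoh.RpushQ (𝟙 X) h ⊣ a) : Nonempty (a ≅ 𝟭 _) := by
  let ρ : DCoh.Rpush (𝟙 X) ≅ 𝟭 (DCoh.D X) :=
    ((OpenImm.restrictPushAdj (𝟙 X)).ofNatIsoLeft (Gen43.Restrict.idIso X)).rightAdjointUniq Adjunction.id
  let φ : DCoh.RpushQ (𝟙 X) h ≅ 𝟭 (DCoh.DQCoh X) :=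
    NatIso.ofComponents (fun F => (ObjectProperty.fullyFaithfulι _).preimageIso (ρ.app F.obj))
      fun {F G} φ => ObjectProperty.hom_ext _ (ρ.hom.naturality φ.hom)
  exact ⟨(adj.ofNatIsoLeft φ).rightAdjointUniq Adjunction.id⟩

/-- Coherent cohomology, bounded below. -/
def CohPlus (K : DCoh.D X) : Prop := DCoh.IsCohD K ∧ ∃ c, K.IsGE c

lemma CohPlus.of_iso {K L : DCoh.D X} (h : CohPlus K) (e : K ≅ L) : CohPlus L := by
  obtain ⟨hc, c, hb⟩ := h
  exact ⟨fun i => CohBasics.Closure.isCoh_of_iso ((DerivedCategory.homologyFunctor _ i).mapIso e) (hc i),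
    c, SupportsBdd.isGE_of_iso hb e⟩

lemma CohPlus.restrict [IsLocallyNoetherian X] {K : DCoh.D X} (h : CohPlus K) (U : X.Opens) :
    CohPlus ((DCoh.restrictD U.ι).obj K) := by
  obtain ⟨hc, c, hb⟩ := h
  exact ⟨fun i => CohBasics.Closure.isCoh_of_iso (Perfect.Coherent.homologyIso U.ι K i).symm
      (RefHull.LocFree.isCoh_restrict (hc i) U), c, (DerivedCategory.isGE_iff _ _).2 fun i hi =>
    ((Scheme.Modules.restrictFunctor U.ι).map_isZero
      ((DerivedCategory.isGE_iff _ _).1 hb i hi)).of_iso (Perfect.Coherent.homologyIso U.ι K i)⟩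

/-- The right adjoint for a closed immersion preserves `D⁺_Coh`. -/
theorem cohPlus_closedImmersion [IsNoetherian X] (i : Z ⟶ X) [IsClosedImmersion i] [DCoh.HasRpush i]
    (hi : DCoh.RpushPreservesQCoh i) {a : DCoh.DQCoh X ⥤ DCoh.DQCoh Z} (adj : DCoh.RpushQ i hi ⊣ a)
    (K : DCoh.DQCoh X) (hK : CohPlus K.obj) : CohPlus (a.obj K).obj := by
  haveI := RHomO.Main.preservesFiniteLimits_push i
  haveI := RHomO.Main.preservesFiniteColimits_push i
  haveI : Dual3.HasHomO i := PushClosed.Basic.pushforward_isLeftAdjoint i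
  haveI : EnoughInjectives X.Modules := inferInstance
  obtain ⟨e⟩ := RHomO.Main.nonempty_adjoint_iso i (RHomO.Main.isPseudoCoherentD_push_O i) hi adj
  obtain ⟨θ⟩ := RHomO.Derived.nonempty_plus_iso i
  obtain ⟨hc, c, hb⟩ := hK
  let K' : (Dual3.IsBddBelowQ X).FullSubcategory := ⟨K, c, hb⟩
  haveI := hb
  let L := (Dual3.bddToPlus X ⋙ Dual3.RHomOPlus i).obj K'
  refine CohPlus.of_iso ⟨?_, ?_⟩ (e.app K').symm
  · intro n
    exact CohBasics.Closure.isCoh_of_iso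
      ((DerivedCategory.homologyFunctor _ n).mapIso (θ.app ((Dual3.bddToPlus X).obj K')).symm)
      (RHomO.Main.isCohD_RH i K.obj hc c n)
  · exact L.property

/-- An isomorphism: the right adjoint reflects `D⁺_Coh`. -/
theorem cohPlus_of_iso_mor [IsNoetherian X] [IsNoetherian Y] (g : X ⟶ Y) [IsIso g] [DCoh.HasRpush g]
    (hg : DCoh.RpushPreservesQCoh g) {a : DCoh.DQCoh Y ⥤ DCoh.DQCoh X} (adj : DCoh.RpushQ g hg ⊣ a)
    (L : DCoh.DQCoh Y) (hL : CohPlus (a.obj L).obj) : CohPlus L.obj := by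
  haveI := DerivedOX.Exists.hasRpush (inv g)
  haveI := DerivedOX.Exists.hasRpush (inv g ≫ g)
  haveI := DerivedOX.Exists.hasRpush (𝟙 Y)
  obtain ⟨b, ⟨adjb⟩⟩ := exists_adj (inv g) (preservesQCoh _)
  obtain ⟨c, ⟨adjc⟩⟩ := exists_adj (inv g ≫ g) (preservesQCoh _)
  obtain ⟨θ⟩ := nonempty_comp_iso (inv g) g _ hg _ adjb adj adjc
  have h1 : CohPlus ((a ⋙ b).obj L).obj := cohPlus_closedImmersion (inv g) _ adjb _ hL
  have h2 := h1.of_iso ((ObjectProperty.ι _).mapIso (θ.app L))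
  have h3 : ∀ (k : Y ⟶ Y), k = 𝟙 Y → ∀ [DCoh.HasRpush k] (hk : DCoh.RpushPreservesQCoh k)
      (d : DCoh.DQCoh Y ⥤ DCoh.DQCoh Y), (DCoh.RpushQ k hk ⊣ d) → Nonempty (d ≅ 𝟭 _) := by
    rintro k rfl _ hk d adjd
    exact nonempty_id_iso hk adjd
  obtain ⟨ι⟩ := h3 (inv g ≫ g) (IsIso.inv_hom_id g) _ c adjc
  exact h2.of_iso ((ObjectProperty.ι _).mapIso (ι.app L))

end Groth.Agent.Lib.RightAdjCoh
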