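import Groth.Agent.Lib.RightAdjCoh.FlatDegZero
import Groth.Agent.H56.RelPC.RelTor
import Groth.Agent.H56.RelPC.RelTorFib
import Groth.Agent.Lib.DR.SplitTrunc
import Groth.Agent.Lib.DerivedOX.FlatResolve
import Groth.Agent.H56.RelTensorPC.Derived

/-!
# Relative tor amplitude from affine charts
-/

set_option autoImplicit false
set_option linter.style.haveILetI false
set_option backward.isDefEq.respectTransparency false

universe u

open CategoryTheory Limits AlgebraicGeometry HomologicalComplex

attribute [local instance] HasDerivedCategory.standard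

namespace Groth.Agent.Lib.RightAdjCoh.RelAmp

open Groth.Agent.Lib
open Groth.Agent.Lib.DR.Basic Groth.Agent.Lib.DR.FiniteComplex Groth.Agent.Lib.DR.PseudoCoherent
open Groth.Agent.Lib.Perfect.Basic

section Ring

variable {R A : Type u} [CommRing R] [CommRing A] [Algebra R A] [Module.Flat R A]

/-- A model with terms flat over the base. -/
theorem exists_model (M : Dual.D A) {a b c : ℤ} (hab : a ≤ b) (hb : M.IsLE b)
    (h : DRing.HasTorAmplitudeIn R a c ((DRing.restrictD (algebraMap R A)).obj M)) :
    ∃ T : DRing.Cx A, DRing.VanishesOutside T a b ∧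
      (∀ i, Module.Flat R ((ModuleCat.restrictScalars.{u} (algebraMap R A)).obj (T.X i))) ∧
      Nonempty (DerivedCategory.Q.obj T ≅ M) := by
  obtain ⟨E, hE, hp, ⟨e⟩⟩ := DR.Representative.ba_proj hb
  let G := ModuleCat.restrictScalars.{u} (algebraMap R A)
  let ER : DRing.Cx R := (G.mapHomologicalComplex (.up ℤ)).obj E
  have hflX : ∀ i, Module.Flat R (G.obj (E.X i)) := fun i => by
    haveI : Module.Projective A (E.X i) := hp i
    letI : Module R (E.X i) := Module.compHom _ (algebraMap R A)
    haveI : IsScalarTower R A (E.X i) := IsScalarTower.of_algebraMap_smul fun _ _ => rfl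
    haveI := Module.Flat.trans R A (E.X i)
    let l : G.obj (E.X i) ≃ₗ[R] E.X i :=
      { toFun := fun z => z
        invFun := fun z => z
        left_inv := fun _ => rfl
        right_inv := fun _ => rfl
        map_add' := fun _ _ => rfl
        map_smul' := fun _ _ => rfl }
    exact Module.Flat.of_linearEquiv l
  have hER : Bdd (flat R) a c (DerivedCategory.Q.obj ER) := by
    obtain ⟨F, hF, hFf, ⟨eF⟩⟩ := h
    exact ⟨F, hF, hFf,
      ⟨eF ≪≫ (DRing.restrictD (algebraMap R A)).mapIso e.symm ≪≫ DR.ExactPush.mapQ G E⟩⟩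
  haveI hge : E.IsGE a := by
    refine (CochainComplex.isGE_iff E a).2 fun i hi => ?_
    rw [exactAt_iff_isZero_homology]
    obtain ⟨F, hF, -, ⟨eF⟩⟩ := hER
    have h0 : IsZero (ER.homology i) :=
      (((exactAt_iff_isZero_homology F i).1 (HomologicalComplex.ExactAt.of_isZero (hF i (Or.inl hi)))).of_iso
        (((DerivedCategory.homologyFunctorFactors _ i).app F).symm ≪≫
          (DerivedCategory.homologyFunctor _ i).mapIso eF ≪≫
          (DerivedCategory.homologyFunctorFactors _ i).app ER).symm)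
    have h1 : IsZero (G.obj (E.homology i)) := h0.of_iso ((E.sc i).mapHomologyIso G).symm
    exact ModuleCat.isZero_iff_subsingleton.2 (ModuleCat.isZero_iff_subsingleton.1 h1 : Subsingleton (G.obj (E.homology i)))
  haveI : QuasiIso (E.πTruncGE a) := (E.quasiIso_πTruncGE_iff a).2 hge
  refine ⟨E.truncGE a, fun i hi => ?_, fun i => ?_,
    ⟨(asIso (DerivedCategory.Q.map (E.πTruncGE a))).symm ≪≫ e⟩⟩
  · rcases hi with hi | hi
    · exact (E.truncGE a).isZero_of_isStrictlyGE a i hi
    · exact (hE i hi).of_iso (E.truncGEXIso a i (by omega))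
  · rcases lt_trichotomy i a with hi | rfl | hi
    · haveI := ModuleCat.isZero_iff_subsingleton.1
        (G.map_isZero ((E.truncGE a).isZero_of_isStrictlyGE a i hi))
      infer_instance
    · have hc := DR.TorAmp.flat_coker ER (fun j hj => G.map_isZero (hE j hj)) hflX hER
      let op : ER.opcycles i ≅ G.obj (E.opcycles i) := (E.sc i).mapOpcyclesIso G
      exact Module.Flat.of_linearEquiv
        (DR.TorAmp.opcyclesIso ER i ≪≫ op ≪≫ G.mapIso (E.truncGEXIsoOpcycles i).symm).symm.toLinearEquiv
    · haveI := hflX i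
      exact Module.Flat.of_linearEquiv (G.mapIso (E.truncGEXIso a i hi)).toLinearEquiv

/-- A complex of tor amplitude `[a, c]` concentrated in degree `a` has flat cohomology. -/
theorem flat_HD_of_isLE (M : Dual.D A) {a c : ℤ} (ha : M.IsLE a)
    (h : DRing.HasTorAmplitudeIn R a c ((DRing.restrictD (algebraMap R A)).obj M))
    [Module R (Dual.HD A M a)] [IsScalarTower R A (Dual.HD A M a)] : Module.Flat R (Dual.HD A M a) := by
  obtain ⟨T, hT, hfl, ⟨e⟩⟩ := exists_model M le_rfl ha h
  have d0 : T.d a (a + 1) = 0 := (hT (a + 1) (Or.inr (by omega))).eq_of_tgt _ _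
  have d1 : T.d (a - 1) a = 0 := (hT (a - 1) (Or.inl (by omega))).eq_of_src _ _
  let η : T.X a ≅ (DerivedCategory.homologyFunctor (ModuleCat.{u} A) a).obj M :=
    (T.iCyclesIso a (a + 1) (by simp) d0).symm ≪≫ T.isoHomologyπ (a - 1) a (by simp) d1 ≪≫
      ((DerivedCategory.homologyFunctorFactors _ a).app T).symm ≪≫
      (DerivedCategory.homologyFunctor _ a).mapIso e
  let l : (ModuleCat.restrictScalars.{u} (algebraMap R A)).obj
      ((DerivedCategory.homologyFunctor (ModuleCat.{u} A) a).obj M) ≃ₗ[R] Dual.HD A M a :=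
    { toFun := fun z => z
      invFun := fun z => z
      left_inv := fun _ => rfl
      right_inv := fun _ => rfl
      map_add' := fun _ _ => rfl
      map_smul' := fun r z => algebraMap_smul A r (show Dual.HD A M a from z) }
  haveI := hfl a
  exact Module.Flat.of_linearEquiv
    (((ModuleCat.restrictScalars.{u} (algebraMap R A)).mapIso η).toLinearEquiv.trans l).symm

end Ring

variable {X Y : Scheme.{u}}

/-- Tor amplitude at the points of a chart. -/
theorem torAmpAt_chart {R A : Type u} [CommRing R] [CommRing A] [Algebra R A] [Module.Flat R A]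
    [∀ (B : CommRingCat.{u}), PreservesFiniteLimits (tilde.functor B)]
    (f : X ⟶ Y) (jA : Spec (CommRingCat.of R) ⟶ Y) [IsOpenImmersion jA]
    (j : Spec (CommRingCat.of A) ⟶ X) [IsOpenImmersion j]
    (hc : j ≫ f = Spec.map (CommRingCat.ofHom (algebraMap R A)) ≫ jA)
    {K : DCoh.D X} (M : Dual.D A)
    (e : (DCoh.restrictD j).obj K ≅ (DCoh.tildeD (CommRingCat.of A)).obj M) {a b : ℤ} (hab : a ≤ b)
    (hb : M.IsLE b) (h : DRing.HasTorAmplitudeIn R a b ((DRing.restrictD (algebraMap R A)).obj M))
    (F : CochainComplex X.Modules ℤ) (eF : DCoh.toD X F ≅ K) (z : ↥(Spec (CommRingCat.of A))) :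
    DerSch.HasTorAmplitudeAt f a b F (j z) := by
  obtain ⟨T, hT, hfl, ⟨eT⟩⟩ := exists_model M hab hb h
  haveI : PreservesFiniteColimits (tilde.functor (CommRingCat.of A)) :=
    haveI : PreservesColimitsOfSize.{0, 0} (tilde.functor (CommRingCat.of A)) :=
      (tilde.adjunction (R := CommRingCat.of A)).leftAdjoint_preservesColimits
    PreservesColimitsOfSize.preservesFiniteColimits _
  refine Groth.Agent.H56.RelPC.RelTorFib.torAmpAt_of_chart f j jA (CommRingCat.ofHom (algebraMap R A)) hc F z ?_
  let E := ((tilde.functor (CommRingCat.of A)).mapHomologicalComplex (ComplexShape.up ℤ)).obj T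
  let eE : DerivedCategory.Q.obj E ≅ DerivedCategory.Q.obj ((rC j).obj F) :=
    ((tilde.functor (CommRingCat.of A)).mapDerivedCategoryFactors.app T).symm ≪≫
      (DCoh.tildeD (CommRingCat.of A)).mapIso eT ≪≫ e.symm ≪≫ (DCoh.restrictD j).mapIso eF.symm ≪≫
      RDQ j F
  refine BettiExact.TorPull.torAmpAt_of_iso _ z eE
    (Groth.Agent.H56.RelPC.hasTorAmplitude_of_flat_terms _ E a b
      (fun i hi => (tilde.functor _).map_isZero (hT i hi)) (fun i y => ?_) z)
  letI : Module R (T.X i) := Module.compHom _ (algebraMap R A)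
  haveI : IsScalarTower R A (T.X i) := IsScalarTower.of_algebraMap_smul fun _ _ => rfl
  haveI : Module.Flat R (T.X i) := by
    let l : (ModuleCat.restrictScalars.{u} (algebraMap R A)).obj (T.X i) ≃ₗ[R] T.X i :=
      { toFun := fun z => z
        invFun := fun z => z
        left_inv := fun _ => rfl
        right_inv := fun _ => rfl
        map_add' := fun _ _ => rfl
        map_smul' := fun _ _ => rfl }
    haveI := hfl i
    exact Module.Flat.of_linearEquiv l.symm
  haveI : Module.Flat A (Localization (y : PrimeSpectrum A).asIdeal.primeCompl) :=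
    IsLocalization.flat _ (y : PrimeSpectrum A).asIdeal.primeCompl
  haveI : Module.Flat R (TensorProduct A (Localization (y : PrimeSpectrum A).asIdeal.primeCompl) (T.X i)) :=
    Disc.Fibre.flat_tensor (A := R) (B := A) (Localization (y : PrimeSpectrum A).asIdeal.primeCompl) (T.X i)
  exact (RG57.FlatPtsChart.isFlatOverAt_tilde_iff R A (T.X i) y).2 (Module.Flat.of_linearEquiv
    ((LocalizedModule.equivTensorProduct (y : PrimeSpectrum A).asIdeal.primeCompl (T.X i)).restrictScalars R))

/-- Local tor amplitude of an object bounded above gives a global flat representative. -/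
theorem hasRelFlatAmplitudeIn (f : X ⟶ Y) [Flat f] (K : DCoh.D X) {a b : ℤ} (hb : K.IsLE b)
    (h : ∀ (F : CochainComplex X.Modules ℤ) (_ : DCoh.toD X F ≅ K) (x : X),
      DerSch.HasTorAmplitudeAt f a b F x) : DCoh.HasRelFlatAmplitudeIn f a b K := by
  let F₀ := DerivedCategory.Q.objPreimage K
  let e₀ : DCoh.toD X F₀ ≅ K := DerivedCategory.Q.objObjPreimageIso K
  haveI : (DCoh.toD X F₀).IsLE b := DR.Basic.isLE_of_iso' e₀.symm hb
  obtain ⟨G, s, hc, hfl, hs⟩ := DerivedOX.FlatResolve.exists_flat_resolution F₀ b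
    (Groth.Agent.H56.RelTensorPC.exactAt_of_isLE F₀ b)
  let eG : DCoh.toD X G ≅ K := asIso (DerivedCategory.Q.map s) ≪≫ e₀
  obtain ⟨E, hE, hEf, ⟨eE⟩⟩ := Groth.Agent.H56.RelPC.RelTor.hasRelFlatAmplitudeIn_of_torAmp f G
    (fun i => Groth.Agent.H56.RelPC.RelTor.isFlatOver_of_isFlat f (hfl i)) hc (a := a) (b := b)
    (fun z => h G eG z)
  exact ⟨E, hE, hEf, ⟨eE ≪≫ eG⟩⟩

end Groth.Agent.Lib.RightAdjCoh.RelAmp
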