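import Groth.Agent.Lib.GorenMor.Local
import Groth.Agent.H54.CMAffine
import Groth.Agent.Lib.DMod.ShriekBounds
import Groth.Agent.Lib.Excellent.Transport
import Groth.Agent.Lib.DMod.CMFibreGlobal
import Groth.Agent.Lib.RightAdjCoh.RelAmp

/-!
# Cohen-Macaulay morphisms and the relative dualizing complex
-/

set_option autoImplicit false
set_option linter.style.haveILetI false
set_option linter.unusedSectionVars false

universe u

open CategoryTheory Limits AlgebraicGeometry IsLocalRing LocCoh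
open Groth.Agent.H46.UnivOpenFinite

attribute [local instance] HasDerivedCategory.standard

namespace Groth.Agent.Lib.RightAdjCoh.CMFib

open Groth.Agent.Lib Groth.Agent.Lib.DMod

/-- On affine schemes: the closed fibre of the localization. -/
theorem nonempty_fibreAt_equiv (R A : Type u) [CommRing R] [CommRing A] [Algebra R A] (q : PrimeSpectrum A) :
    Nonempty (((Spec (CommRingCat.of A)).presheaf.stalk q ⧸
      (maximalIdeal ((Spec (CommRingCat.of R)).presheaf.stalk (sm R A q))).map ((sm R A).stalkMap q).hom) ≃+*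
      DMod.GorFibrePrime.FibreAt R q.asIdeal) := by
  let φ : CommRingCat.of R ⟶ CommRingCat.of A := CommRingCat.ofHom (algebraMap R A)
  let p := (q.comap φ.hom).asIdeal
  let ψ : Localization.AtPrime p →+* Localization.AtPrime q.asIdeal :=
    Localization.localRingHom p q.asIdeal φ.hom rfl
  let e₁ := (Spec.stalkIso (CommRingCat.of R) (q.comap φ.hom)).commRingCatIsoToRingEquiv
  let e₂ := (Spec.stalkIso (CommRingCat.of A) q).commRingCatIsoToRingEquiv
  haveI : IsLocalRing ((Spec (CommRingCat.of R)).presheaf.stalk (q.comap φ.hom)) :=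
    inferInstanceAs (IsLocalRing ((Spec (CommRingCat.of R)).presheaf.stalk (sm R A q)))
  have hcomm : e₂.toRingHom.comp ((Spec.map φ).stalkMap q).hom = ψ.comp e₁.toRingHom :=
    (congrArg CommRingCat.Hom.hom (Scheme.arrowStalkMapSpecIso φ q).hom.w).symm
  have hmap : ((maximalIdeal ((Spec (CommRingCat.of R)).presheaf.stalk (sm R A q))).map
      ((sm R A).stalkMap q).hom).map e₂.toRingHom =
      (q.asIdeal.comap (algebraMap R A)).map (algebraMap R (Localization.AtPrime q.asIdeal)) := by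
    rw [Ideal.map_map]
    refine (congrArg (fun χ => Ideal.map χ _) hcomm).trans ?_
    refine (Ideal.map_map e₁.toRingHom ψ).symm.trans
      ((congrArg (Ideal.map ψ)
        (IsLocalRing.map_maximalIdeal_of_surjective e₁.toRingHom e₁.surjective)).trans ?_)
    refine (congrArg (Ideal.map ψ) (Localization.AtPrime.map_eq_maximalIdeal (I := p)).symm).trans
      ((Ideal.map_map _ _).trans ?_)
    refine congrArg₂ Ideal.map (RingHom.ext fun r => ?_) rfl
    exact (Localization.localRingHom_to_map p q.asIdeal φ.hom rfl r).trans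
      (IsScalarTower.algebraMap_apply R A (Localization.AtPrime q.asIdeal) r).symm
  exact ⟨Ideal.quotientEquiv _ _ e₂ hmap.symm⟩

theorem cm_fibreAt (R A : Type u) [CommRing R] [CommRing A] [Algebra R A] (q : PrimeSpectrum A)
    (h : MoreMor.IsCMAt (sm R A) q) :
    IsCohenMacaulayLocalRing (DMod.GorFibrePrime.FibreAt R q.asIdeal) := by
  haveI := ((Groth.Agent.H54.CMMor.isCMAt_iff (sm R A) q).1 h).2
  obtain ⟨e⟩ := nonempty_fibreAt_equiv R A q
  exact Excellent.Transport.isCohenMacaulayLocalRing_of_ringEquiv e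

theorem isCMAt_sm_of_fibreAt (R A : Type u) [CommRing R] [CommRing A] [Algebra R A] [Module.Flat R A]
    (q : PrimeSpectrum A) (h : IsCohenMacaulayLocalRing (DMod.GorFibrePrime.FibreAt R q.asIdeal)) :
    MoreMor.IsCMAt (sm R A) q := by
  have hfl : Flat (sm R A) :=
    (HasRingHomProperty.Spec_iff (P := @Flat)).2 (RingHom.flat_algebraMap_iff.2 inferInstance)
  obtain ⟨e⟩ := nonempty_fibreAt_equiv R A q
  exact (Groth.Agent.H54.CMMor.isCMAt_iff (sm R A) q).2 ⟨Flat.stalkMap (sm R A) q,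
    Excellent.Transport.isCohenMacaulayLocalRing_of_ringEquiv e.symm⟩

theorem isCMAt_chart {X Y U V : Scheme.{u}} (f : X ⟶ Y) [LocallyOfFiniteType f] (jA : V ⟶ Y)
    (j : U ⟶ X) [IsOpenImmersion j] (g : U ⟶ V) [Flat g] (hc : j ≫ f = g ≫ jA) (z : U)
    (h : MoreMor.IsCMAt f (j z)) : MoreMor.IsCMAt g z := by
  have h1 := (Groth.Agent.H54.CMAffine.isCMAt_openImmersion_comp j f z).2 h
  rw [hc] at h1
  exact (Groth.Agent.H54.CMMor.isCMAt_of_comp g jA z h1 (Flat.stalkMap g z)).1

theorem isCMAt_of_chart {X Y U V : Scheme.{u}} (f : X ⟶ Y) [LocallyOfFiniteType f] (jA : V ⟶ Y)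
    [IsOpenImmersion jA] (j : U ⟶ X) [IsOpenImmersion j] (g : U ⟶ V) [LocallyOfFiniteType g]
    (hc : j ≫ f = g ≫ jA) (z : U) (h : MoreMor.IsCMAt g z) : MoreMor.IsCMAt f (j z) := by
  refine (Groth.Agent.H54.CMAffine.isCMAt_openImmersion_comp j f z).1 ?_
  rw [hc]
  exact Groth.Agent.H54.CMMor.isCMAt_comp g jA z (Groth.Agent.H46.QFin.isLocallyNoetherian_fiber (g ≫ jA) _) h
    (Groth.Agent.H54.CMAffine.isCMAt_of_quasiFiniteAt jA (g z) (Scheme.Hom.quasiFiniteAt jA (g z))
      (Groth.Agent.H54.CMAffine.flat_stalkMap_openImmersion jA (g z)))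

/-- The closed fibre at a point of a chart. -/
theorem cm_fibreAt_chart {X Y : Scheme.{u}} (f : X ⟶ Y) [LocallyOfFiniteType f] (R A : Type u) [CommRing R]
    [CommRing A] [Algebra R A] [Module.Flat R A] (jA : Spec (CommRingCat.of R) ⟶ Y)
    (j : Spec (CommRingCat.of A) ⟶ X) [IsOpenImmersion j]
    (hc : j ≫ f = Spec.map (CommRingCat.ofHom (algebraMap R A)) ≫ jA) (q : PrimeSpectrum A)
    (h : MoreMor.IsCMAt f (j q)) : IsCohenMacaulayLocalRing (DMod.GorFibrePrime.FibreAt R q.asIdeal) := by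
  have hfl : Flat (Spec.map (CommRingCat.ofHom (algebraMap R A))) :=
    (HasRingHomProperty.Spec_iff (P := @Flat)).2 (RingHom.flat_algebraMap_iff.2 inferInstance)
  exact cm_fibreAt R A q (@isCMAt_chart _ _ _ _ f _ jA j _ _ hfl hc q h)

variable {R A : Type u} [CommRing R] [CommRing A] [IsNoetherianRing R] [Algebra R A] {n : ℕ}
  {ψ : MvPolynomial (Fin n) R →ₐ[R] A}
  [DRing.HasLBaseChange (algebraMap R (MvPolynomial (Fin n) R))]
  {Rψ : Dual.D (MvPolynomial (Fin n) R) ⥤ Dual.D A}

/-- At a Cohen-Macaulay point only the degree minus the fibre dimension survives. -/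
theorem killed_of_ne [Module.Flat R A] (hψ : Function.Surjective ψ)
    (adj : DRing.restrictD ψ.toRingHom ⊣ Rψ) (q : PrimeSpectrum A) (dd : ℕ)
    (hdd : FlatMor.fibreDimAt (AlgebraicGeometry.Spec.map (CommRingCat.ofHom (algebraMap R A))) q = dd)
    (hCM : IsCohenMacaulayLocalRing (DMod.GorFibrePrime.FibreAt R q.asIdeal))
    (i : ℤ) (hi : i ≠ -(dd : ℤ)) (x : Dual.HD A (Dual2.shriekVia n Rψ (Dual.inD R R)) i) :
    ∃ s : A, s ∉ q.asIdeal ∧ s • x = 0 := by
  letI := ψ.toRingHom.toAlgebra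
  haveI : IsScalarTower R (MvPolynomial (Fin n) R) A :=
    IsScalarTower.of_algebraMap_eq fun r => (ψ.commutes r).symm
  have hsurj : Function.Surjective (algebraMap (MvPolynomial (Fin n) R) A) := hψ
  rcases lt_or_ge ((n : ℤ) + i) 0 with h0 | h0
  · have := ShriekLCI.subsingleton_HD_neg adj _ h0
    have := (Basic.HDShift (Rψ.obj (ShriekLCI.Y (R := R) (n := n))) (n : ℤ) i _ rfl).toEquiv.subsingleton
    exact ⟨1, fun h => q.2.ne_top ((Ideal.eq_top_iff_one _).2 h), @Subsingleton.elim _ this _ _⟩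
  obtain ⟨j, hj⟩ := Int.eq_ofNat_of_zero_le h0
  obtain ⟨D, d, dd', hD, hd, hdd', hsum⟩ := ShriekBounds.exists_codim (n := n) hsurj q.asIdeal
  have hdd'' : dd' = dd := by exact_mod_cast hdd'.symm.trans hdd
  obtain ⟨c, hc, hv, -, -⟩ := (CMFibrePrime.prime_iff hsurj q.asIdeal hD hd).1 hCM
  have := hv j (by omega)
  obtain ⟨φ, hφ⟩ := LocalExtCI.exists_localizing (P := MvPolynomial (Fin n) R) hsurj q.asIdeal j
  obtain ⟨e, he⟩ := ShriekBounds.exists_shriek_equiv adj i j hj
  obtain ⟨⟨s, hs⟩, hsx⟩ := hφ.eq_zero (e x) (Subsingleton.elim _ _)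
  exact ⟨ψ s, hs, e.injective (by rw [he, map_zero]; exact hsx)⟩

/-- The Cohen-Macaulay point: a single degree. -/
theorem eq_of_nontrivial [Module.Flat R A] (hψ : Function.Surjective ψ)
    (adj : DRing.restrictD ψ.toRingHom ⊣ Rψ) (q : PrimeSpectrum A) (dd : ℕ)
    (hdd : FlatMor.fibreDimAt (AlgebraicGeometry.Spec.map (CommRingCat.ofHom (algebraMap R A))) q = dd)
    (hCM : IsCohenMacaulayLocalRing (DMod.GorFibrePrime.FibreAt R q.asIdeal))
    (i : ℤ) (h : Nontrivial (LocalizedModule q.asIdeal.primeCompl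
      (Dual.HD A (Dual2.shriekVia n Rψ (Dual.inD R R)) i))) : i = -(dd : ℤ) := by
  by_contra hne
  refine not_subsingleton_iff_nontrivial.2 h (LocalizedModule.subsingleton_iff.2 fun x => ?_)
  obtain ⟨s, hs, hsx⟩ := killed_of_ne hψ adj q dd hdd hCM i hne x
  exact ⟨s, hs, hsx⟩

/-- A nonzero local `Ext` gives nonzero localized cohomology. -/
theorem nontrivial_of_lext (adj : DRing.restrictD ψ.toRingHom ⊣ Rψ) (hψ : Function.Surjective ψ)
    (q : PrimeSpectrum A) (j : ℕ) (i : ℤ) (hj : (n : ℤ) + i = j)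
    (hne : letI := ψ.toRingHom.toAlgebra
      Nontrivial (LocalExtCI.LExt (P := MvPolynomial (Fin n) R) A q.asIdeal j)) :
    Nontrivial (LocalizedModule q.asIdeal.primeCompl (Dual.HD A (Dual2.shriekVia n Rψ (Dual.inD R R)) i)) := by
  letI := ψ.toRingHom.toAlgebra
  haveI : IsScalarTower R (MvPolynomial (Fin n) R) A :=
    IsScalarTower.of_algebraMap_eq fun r => (ψ.commutes r).symm
  have hsurj : Function.Surjective (algebraMap (MvPolynomial (Fin n) R) A) := hψ
  refine not_subsingleton_iff_nontrivial.1 fun hsub => not_subsingleton_iff_nontrivial.2 hne ?_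
  obtain ⟨φ, hφ⟩ := LocalExtCI.exists_localizing (P := MvPolynomial (Fin n) R) hsurj q.asIdeal j
  obtain ⟨e, he⟩ := ShriekBounds.exists_shriek_equiv adj i j hj
  refine subsingleton_of_forall_eq 0 fun z => ?_
  obtain ⟨y, t, hy⟩ := hφ.surj z
  obtain ⟨s, hs, hsy⟩ := LocalizedModule.subsingleton_iff.1 hsub (e.symm y)
  obtain ⟨p, rfl⟩ := hψ s
  have h0 : p • y = 0 := by
    have h1 := congrArg e hsy
    rwa [he, map_zero, AddEquiv.apply_symm_apply] at h1
  have h2 := hφ.map_smul p y
  rw [h0, map_zero, ← hy] at h2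
  exact (IsLocalization.map_units _ t).smul_eq_zero.1
    ((IsLocalization.map_units _ (⟨p, hs⟩ : (q.asIdeal.comap (algebraMap (MvPolynomial (Fin n) R) A)).primeCompl)).smul_eq_zero.1 h2.symm)

/-- The degree at a Cohen-Macaulay point is occupied. -/
theorem nontrivial_of_cm [Module.Flat R A] (hψ : Function.Surjective ψ)
    (adj : DRing.restrictD ψ.toRingHom ⊣ Rψ) (q : PrimeSpectrum A) (dd : ℕ)
    (hdd : FlatMor.fibreDimAt (AlgebraicGeometry.Spec.map (CommRingCat.ofHom (algebraMap R A))) q = dd)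
    (hCM : IsCohenMacaulayLocalRing (DMod.GorFibrePrime.FibreAt R q.asIdeal)) :
    Nontrivial (LocalizedModule q.asIdeal.primeCompl
      (Dual.HD A (Dual2.shriekVia n Rψ (Dual.inD R R)) (-(dd : ℤ)))) := by
  letI := ψ.toRingHom.toAlgebra
  haveI : IsScalarTower R (MvPolynomial (Fin n) R) A :=
    IsScalarTower.of_algebraMap_eq fun r => (ψ.commutes r).symm
  have hsurj : Function.Surjective (algebraMap (MvPolynomial (Fin n) R) A) := hψ
  obtain ⟨D, d, dd', hD, hd, hdd', hsum⟩ := ShriekBounds.exists_codim (n := n) hsurj q.asIdeal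
  have hdd'' : dd' = dd := by exact_mod_cast hdd'.symm.trans hdd
  obtain ⟨c, hc, -, -, hne⟩ := (CMFibrePrime.prime_iff hsurj q.asIdeal hD hd).1 hCM
  exact nontrivial_of_lext adj hψ q c _ (by omega) hne

/-- A single degree on a whole chart forces Cohen-Macaulay fibres. -/
theorem cm_of_single [IsNoetherianRing A] [Module.Flat R A] (hψ : Function.Surjective ψ)
    (adj : DRing.restrictD ψ.toRingHom ⊣ Rψ) (N : ℤ)
    (h : ∀ (Q : PrimeSpectrum A) (i : ℤ), i ≠ N → ¬ Nontrivial (LocalizedModule Q.asIdeal.primeCompl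
      (Dual.HD A (Dual2.shriekVia n Rψ (Dual.inD R R)) i))) (q : PrimeSpectrum A) :
    IsCohenMacaulayLocalRing (DMod.GorFibrePrime.FibreAt R q.asIdeal) := by
  letI := ψ.toRingHom.toAlgebra
  haveI : IsScalarTower R (MvPolynomial (Fin n) R) A :=
    IsScalarTower.of_algebraMap_eq fun r => (ψ.commutes r).symm
  have hsurj : Function.Surjective (algebraMap (MvPolynomial (Fin n) R) A) := hψ
  haveI : Algebra.FiniteType R A := Algebra.FiniteType.of_surjective ψ hψ
  haveI : LocallyOfFiniteType (sm R A) := lft_sm R A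
  have hdim : ∀ Q : PrimeSpectrum A, ∃ dd : ℕ, (dd : ℤ) = -N ∧
      FlatMor.fibreDimAt (sm R A) Q = (dd : WithBot ℕ∞) := fun Q => by
    obtain ⟨z, -, hzb, hmax, hzd⟩ := FibreDim.Chart.exists_maximal_generization (sm R A) Q
    have hfd : Groth.Agent.H46.DimData.fd (sm R A) z = 0 :=
      (Groth.Agent.H46.DimData.fd_eq_zero_iff (sm R A) z).2 fun z' hz' hs => hmax z' (hz'.trans hzb) hs
    obtain ⟨ε⟩ := nonempty_fibreAt_equiv R A z
    have h0 : ringKrullDim (DMod.GorFibrePrime.FibreAt R (z : PrimeSpectrum A).asIdeal) = 0 := by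
      refine (ringKrullDim_eq_of_ringEquiv ε).symm.trans ?_
      refine (Groth.Agent.H54.CMAffine.ringKrullDim_quotient (sm R A) z).trans ?_
      rw [hfd]
      rfl
    haveI : IsNoetherianRing (DMod.GorFibrePrime.FibreAt R (z : PrimeSpectrum A).asIdeal) := inferInstance
    haveI : Nontrivial (DMod.GorFibrePrime.FibreAt R (z : PrimeSpectrum A).asIdeal) := by
      refine not_subsingleton_iff_nontrivial.1 fun hs => ?_
      rw [ringKrullDim_eq_bot_of_subsingleton] at h0
      exact WithBot.bot_ne_zero h0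
    haveI : IsLocalRing (DMod.GorFibrePrime.FibreAt R (z : PrimeSpectrum A).asIdeal) :=
      IsLocalRing.of_surjective' (Ideal.Quotient.mk _) Ideal.Quotient.mk_surjective
    have hCM : IsCohenMacaulayLocalRing (DMod.GorFibrePrime.FibreAt R (z : PrimeSpectrum A).asIdeal) := by
      rw [Depth.CM.isCohenMacaulayLocalRing_iff, h0]
      exact WithBot.coe_le_coe.2 bot_le
    refine ⟨Groth.Agent.H46.DimData.fe (sm R A) z, ?_,
      hzd.symm.trans (Groth.Agent.H46.DimData.fibreDimAt_eq (sm R A) z)⟩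
    have hn := nontrivial_of_cm hψ adj z _ (Groth.Agent.H46.DimData.fibreDimAt_eq (sm R A) z) hCM
    by_contra hne
    exact h z _ (by omega) hn
  obtain ⟨dd, hdd, hq⟩ := hdim q
  let M := Dual2.shriekVia n Rψ (Dual.inD R R)
  have hsub : ∀ i : ℤ, i ≠ N → Subsingleton (Dual.HD A M i) := fun i hi =>
    ShriekLCI.subsingleton_of_local (A := A) fun (Q : Ideal A) (hQm : Q.IsMaximal) z => by
      haveI := hQm.isPrime
      by_contra hz
      exact h ⟨Q, inferInstance⟩ i hi (not_subsingleton_iff_nontrivial.1 fun hs =>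
        hz (LocalizedModule.subsingleton_iff.1 hs z))
  letI : Module R (Dual.HD A M N) := Module.compHom _ (algebraMap R A)
  haveI : IsScalarTower R A (Dual.HD A M N) := IsScalarTower.of_algebraMap_smul fun _ _ => rfl
  have hflat : Module.Flat R (Dual.HD A M N) := RelAmp.flat_HD_of_isLE (R := R) M (c := 0)
    ((Basic.isLE_iff _ _).2 fun i hi => hsub i (by omega))
    (by
      have := ShriekAmplitude.torAmplitude hψ adj dd fun Q => by
        obtain ⟨dd', hdd', hQ⟩ := hdim Q
        exact (show FlatMor.fibreDimAt (sm R A) Q ≤ (dd : WithBot ℕ∞) from by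
          rw [hQ, show dd' = dd by omega])
      rwa [hdd, neg_neg] at this)
  obtain ⟨D, d, dd', hD, hd, hdd', hsum⟩ := ShriekBounds.exists_codim (n := n) hsurj q.asIdeal
  have hdd'' : dd' = dd := by exact_mod_cast hdd'.symm.trans hq
  have hddn : 0 ≤ (n : ℤ) + N := by
    by_contra hneg
    obtain ⟨z, -, hzb, hmax, hzd⟩ := FibreDim.Chart.exists_maximal_generization (sm R A) q
    obtain ⟨dz, hdz1, hdz⟩ := hdim z
    have hfd : Groth.Agent.H46.DimData.fd (sm R A) z = 0 :=
      (Groth.Agent.H46.DimData.fd_eq_zero_iff (sm R A) z).2 fun z' hz' hs => hmax z' (hz'.trans hzb) hs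
    obtain ⟨ε⟩ := nonempty_fibreAt_equiv R A z
    obtain ⟨D', d', dd'', hD'', hd', hd'', hs''⟩ := ShriekBounds.exists_codim (n := n) hsurj (z : PrimeSpectrum A).asIdeal
    have h1 : dd'' = dz := by exact_mod_cast hd''.symm.trans hdz
    have h2 : d' = 0 := by
      have h3 := (ringKrullDim_eq_of_ringEquiv ε).trans hd'
      rw [Groth.Agent.H54.CMAffine.ringKrullDim_quotient (sm R A) z, hfd] at h3
      exact_mod_cast h3.symm
    omega
  obtain ⟨c, hc⟩ := Int.eq_ofNat_of_zero_le hddn
  refine ((CMFibrePrime.prime_iff hsurj q.asIdeal hD hd).2 c (fun j hj => ?_) ?_).1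
  · obtain ⟨φ, hφ⟩ := LocalExtCI.exists_localizing (P := MvPolynomial (Fin n) R) hsurj q.asIdeal j
    obtain ⟨e, he⟩ := ShriekBounds.exists_shriek_equiv adj ((j : ℤ) - n) j (by omega)
    haveI := hsub ((j : ℤ) - n) (by omega)
    refine subsingleton_of_forall_eq 0 fun z => ?_
    obtain ⟨y, t, hy⟩ := hφ.surj z
    rw [show y = e 0 from (e.apply_symm_apply y).symm.trans (congrArg e (Subsingleton.elim _ _)), map_zero,
      map_zero] at hy
    exact (IsLocalization.map_units _ t).smul_eq_zero.1 hy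
  · obtain ⟨φ, hφ⟩ := LocalExtCI.exists_localizing (P := MvPolynomial (Fin n) R) hsurj q.asIdeal c
    obtain ⟨e, he⟩ := ShriekBounds.exists_shriek_equiv adj N c hc
    refine @CMFibreGlobal.flat_localized _ _ _ _ _ _ _ _ _ ?_ _ _ _ _ hφ
    letI : Module R (PresTransfer.E ψ c) := Module.compHom _ (algebraMap R (MvPolynomial (Fin n) R))
    haveI : IsScalarTower R (MvPolynomial (Fin n) R) (PresTransfer.E ψ c) :=
      IsScalarTower.of_algebraMap_smul fun _ _ => rfl
    let eR : Dual.HD A M N ≃ₗ[R] PresTransfer.E ψ c :=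
      { e with
        map_smul' := fun r x => by
          show e (algebraMap R A r • x) = algebraMap R (MvPolynomial (Fin n) R) r • e x
          rw [← ψ.commutes r, he] }
    exact (CMFibrePrime.restrict_iff _).2 (Module.Flat.of_linearEquiv eR.symm)

end Groth.Agent.Lib.RightAdjCoh.CMFib
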