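import Groth.Agent.Lib.RightAdjCoh.PnComp
import Groth.Agent.Lib.DerivedOX.AffinePushTilde
import Groth.Agent.Lib.DualSch.Pull
import Groth.Agent.Lib.DMod.ShriekVia
import Groth.Agent.Lib.DMod.FiniteRing
import Groth.Agent.Lib.RightAdjTensor.Trace
import Groth.Agent.Lib.RightAdjTensor.Finite
import Groth.Agent.S3658

/-!
# The right adjoint read on an affine chart `Spec B → Spec A`: `RHom_{A[x]}(B, ω ⊗ A[x])[n]`
-/

set_option autoImplicit false
set_option linter.unusedSectionVars false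
set_option linter.style.haveILetI false
set_option backward.isDefEq.respectTransparency false

universe u

open CategoryTheory Limits AlgebraicGeometry Pretriangulated

attribute [local instance] HasDerivedCategory.standard

namespace Groth.Agent.Lib.RightAdjCoh.Chart

open Groth.Agent.Lib DerivedOX Gen43.Restrict RightAdjTensor
open Groth.Agent.Lib.DMod.FlatHom (L E)

variable {U X Y : Scheme.{u}}

/-- The iso onto the preimage of an open subscheme. -/
theorem exists_sq {V : Scheme.{u}} (i : X ⟶ Y) (c : V ⟶ Y) [IsOpenImmersion c] (t : U ⟶ X)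
    [IsOpenImmersion t] (k : U ⟶ V) (hr : t.opensRange = i ⁻¹ᵁ c.opensRange) (h : t ≫ i = k ≫ c) :
    ∃ e : U ≅ ((i ⁻¹ᵁ c.opensRange : X.Opens) : Scheme.{u}), e.hom ≫ (i ⁻¹ᵁ c.opensRange).ι = t ∧
      e.inv ≫ k = (i ∣_ c.opensRange) ≫ c.isoOpensRange.inv := by
  let e := t.isoOpensRange ≪≫ X.isoOfEq hr
  have het : e.hom ≫ (i ⁻¹ᵁ c.opensRange).ι = t := by
    simp only [e, Iso.trans_hom, Category.assoc, Scheme.isoOfEq_hom_ι, Scheme.Hom.isoOpensRange_hom_ι]
  refine ⟨e, het, ?_⟩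
  rw [← cancel_mono c, Category.assoc, Category.assoc, Scheme.Hom.isoOpensRange_inv_comp,
    morphismRestrict_ι, ← h, ← Category.assoc e.inv, ← cancel_epi e.hom, ← Category.assoc,
    ← Category.assoc, Iso.hom_inv_id, Category.id_comp, ← Category.assoc e.hom, het]

/-- Restriction of a module in degree zero. -/
theorem nonempty_restrict_inD (j : U ⟶ X) [IsOpenImmersion j] {M : X.Modules} {N : U.Modules}
    (e : M.restrict j ≅ N) : Nonempty ((DCoh.restrictD j).obj (DCoh.inD X M) ≅ DCoh.inD U N) :=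
  ⟨((Scheme.Modules.restrictFunctor j).mapDerivedCategorySingleFunctor 0).app M ≪≫
    (DerivedCategory.singleFunctor U.Modules 0).mapIso e⟩

/-- `O(k)` is trivial on the standard chart. -/
theorem nonempty_twist_chart {n : ℕ} (R : Type u) [CommRing R] (i : Fin (n + 1)) (k : ℤ) :
    Nonempty ((DCoh.restrictD (ProjSpace.Basic.chartι (n := n) R i)).obj
        (DCoh.inD (CohB1.ProjSpace n R) (Twist.twistProjSpace n R k)) ≅
      CompactUnit.oneD (Spec (CommRingCat.of (MvPolynomial (Fin n) R)))) := by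
  let c := ProjSpace.Basic.chartι (n := n) R i
  have hX : (MvPolynomial.X i : MvPolynomial (Fin (n + 1)) R) ∈ CohB1.polyGrading n R 1 :=
    (MvPolynomial.mem_homogeneousSubmodule _ _).2 (MvPolynomial.isHomogeneous_X R i)
  obtain ⟨t⟩ := ProjTilde.Invertible.twist_trivial_basicOpen hX k
    (U := c.opensRange) (ProjSpace.Basic.opensRange_chartι R i).le
  obtain ⟨e⟩ := nonempty_restrict_inD c.opensRange.ι t
  have hk : DCoh.inD (CohB1.ProjSpace n R) (Twist.twistProjSpace n R k) ≅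
      DCoh.inD (CohB1.ProjSpace n R) (Twist.twist (CohB1.polyGrading n R) (k * ((1 : ℕ) : ℤ))) :=
    eqToIso (by rw [Nat.cast_one, mul_one]; rfl)
  exact ⟨(DCoh.restrictD c).mapIso hk ≪≫
    (compIso' c.isoOpensRange.hom c.opensRange.ι (Scheme.Hom.isoOpensRange_hom_ι c)).symm.app _ ≪≫
    (DCoh.restrictD c.isoOpensRange.hom).mapIso e ≪≫ CompactUnit.restrictOneIso c.isoOpensRange.hom⟩

/-- Tensoring with a shifted unit is shifting. -/
theorem nonempty_tensor_shift (F : CochainComplex X.Modules ℤ) [DCoh.HasLTensorCx F] (n : ℤ)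
    (e : DerivedCategory.Q.obj F ≅ (CompactUnit.oneD X)⟦n⟧) (K : DCoh.D X) :
    Nonempty ((DCoh.LTensorCx F).obj K ≅ K⟦n⟧) := by
  obtain ⟨P, hP, ⟨eP⟩⟩ := QCohLocal.exists_kflat K
  obtain ⟨c₁⟩ := QCohLocal.nonempty_LTensorCx_iso F hP
  let one := DualFree.one X
  obtain ⟨c₂⟩ := QCohLocal.nonempty_tensor_iso hP (B' := one⟦n⟧)
    (e ≪≫ (shiftFunctor _ n).mapIso ((DerivedCategory.singleFunctorIsoCompQ X.Modules 0).app _) ≪≫
      ((DerivedCategory.Q.commShiftIso n).app one).symm)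
  haveI := LeftExists.hasLTensorCx one
  obtain ⟨θ⟩ := RightAdjTensor.Finite.nonempty_tensorUnit one (𝟙 one)
  obtain ⟨c₃⟩ := QCohLocal.nonempty_LTensorCx_iso one hP
  exact ⟨(DCoh.LTensorCx F).mapIso eP.symm ≪≫ c₁ ≪≫ c₂ ≪≫
    DerivedCategory.Q.mapIso (CochainComplex.mapBifunctorShift₂Iso P one (DCoh.tensorBi (X := X)) n) ≪≫
    (DerivedCategory.Q.commShiftIso n).app _ ≪≫
    (shiftFunctor _ n).mapIso (c₃.symm ≪≫ θ.app _ ≪≫ eP)⟩

/-- `a K` on the standard chart of `P^n_R`. -/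
theorem nonempty_a_chart {n : ℕ} {R : Type u} [CommRing R] [DCoh.HasRpush (CohB1.ProjSpace.toSpec n R)]
    (hf : DCoh.RpushPreservesQCoh (CohB1.ProjSpace.toSpec n R))
    {a : DCoh.DQCoh (Spec (CommRingCat.of R)) ⥤ DCoh.DQCoh (CohB1.ProjSpace n R)}
    (adj : DCoh.RpushQ (CohB1.ProjSpace.toSpec n R) hf ⊣ a)
    [DCoh.HasLpull (Spec.map (CommRingCat.ofHom (MvPolynomial.C (R := R) (σ := Fin n))))]
    (K : DCoh.DQCoh (Spec (CommRingCat.of R))) :
    Nonempty ((DCoh.restrictD (ProjSpace.Basic.chartι (n := n) R 0)).obj (a.obj K).obj ≅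
      ((DCoh.Lpull (Spec.map (CommRingCat.ofHom (MvPolynomial.C (R := R) (σ := Fin n))))).obj K.obj)⟦(n : ℤ)⟧) := by
  let p := CohB1.ProjSpace.toSpec n R
  let c := ProjSpace.Basic.chartι (n := n) R 0
  haveI := LeftExists.hasLpull p
  haveI := LeftExists.hasLpull c
  haveI := LeftExists.hasLpull (c ≫ p)
  haveI : IsProper p := inferInstance
  haveI : Flat p := inferInstance
  haveI : LocallyOfFinitePresentation p := inferInstance
  let O : DCoh.DQCoh (Spec (CommRingCat.of R)) :=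
    ⟨CompactUnit.oneD _, Perfect.QCohD.isQCohD_of_isPerfect (Gen43.Affine.isPerfect_oneD' _)⟩
  let F := DerivedCategory.Q.objPreimage (a.obj O).obj
  haveI := LeftExists.hasLTensorCx F
  obtain ⟨θ⟩ := Groth.Agent.S3658.result (CohB1.ProjSpace n R) (Spec (CommRingCat.of R)) p hf a adj O
    ⟨Iso.refl _⟩ F ⟨DerivedCategory.Q.objObjPreimageIso _⟩
  obtain ⟨F', ⟨eF'⟩, hF'⟩ := ProjectionLocal.exists_restrict_LTensor c F
  haveI := LeftExists.hasLTensorCx F'
  obtain ⟨t⟩ := hF' inferInstance ((DCoh.Lpull p).obj K.obj)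
  obtain ⟨e₁⟩ := PnComp.nonempty_a_one hf adj O ⟨Iso.refl _⟩
  obtain ⟨e₂⟩ := nonempty_twist_chart (n := n) R 0 (-((n : ℤ) + 1))
  let eO : DerivedCategory.Q.obj F' ≅
      (CompactUnit.oneD (Spec (CommRingCat.of (MvPolynomial (Fin n) R))))⟦(n : ℤ)⟧ :=
    eF' ≪≫ (DCoh.restrictD c).mapIso (DerivedCategory.Q.objObjPreimageIso _ ≪≫ e₁) ≪≫
      ((DCoh.restrictD c).commShiftIso (n : ℤ)).app _ ≪≫ (shiftFunctor _ (n : ℤ)).mapIso e₂
  obtain ⟨s⟩ := nonempty_tensor_shift F' (n : ℤ) eO ((DCoh.restrictD c).obj ((DCoh.Lpull p).obj K.obj))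
  obtain ⟨ec⟩ := QCohLocal.nonempty_restrictD_iso c ((DCoh.Lpull p).obj K.obj)
  have congrIso : ∀ {g h : Spec (CommRingCat.of (MvPolynomial (Fin n) R)) ⟶ Spec (CommRingCat.of R)}
      [DCoh.HasLpull g] [DCoh.HasLpull h], g = h → Nonempty (DCoh.Lpull g ≅ DCoh.Lpull h) := by
    intro g h _ _ e; subst e; exact ⟨Iso.refl _⟩
  obtain ⟨eq⟩ := congrIso (g := c ≫ p)
    (h := Spec.map (CommRingCat.ofHom (MvPolynomial.C (R := R) (σ := Fin n)))) (ProjSpace.Basic.chartι_toSpec R 0)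
  exact ⟨(DCoh.restrictD c).mapIso (θ.app K) ≪≫ t ≪≫ s ≪≫ (shiftFunctor _ (n : ℤ)).mapIso
    (ec ≪≫ (PullComp.lpullCompIso c p).app K.obj ≪≫ eq.app K.obj)⟩

section Affine

variable {A B : CommRingCat.{u}} [PreservesFiniteLimits (tilde.functor A)]
  [PreservesFiniteLimits (tilde.functor B)]

/-- `M ↦ M~` into `D_QCoh`. -/
noncomputable abbrev T (A : CommRingCat.{u}) [PreservesFiniteLimits (tilde.functor A)] :
    Dual.D A ⥤ DCoh.DQCoh (Spec A) :=
  ObjectProperty.lift _ (DCoh.tildeD A) fun M => TildeEquiv.isQCohD_obj A M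

theorem isEquivalence_T (A : CommRingCat.{u}) [PreservesFiniteLimits (tilde.functor A)] :
    (T A).IsEquivalence := by
  haveI := TildeEquiv.full A
  haveI := TildeEquiv.faithful A
  haveI : (T A).EssSurj := ⟨fun K => by
    obtain ⟨M, ⟨e⟩⟩ := TildeEquiv.exists_preimage A K.obj K.property
    exact ⟨M, ⟨(ObjectProperty.fullyFaithfulι _).preimageIso e⟩⟩⟩
  exact {}

/-- Between affine schemes the right adjoint of `R(Spec φ)_*` is the right adjoint of restriction of scalars. -/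
theorem nonempty_adj_tilde (φ : A ⟶ B) [DCoh.HasRpush (Spec.map φ)]
    (hφ : DCoh.RpushPreservesQCoh (Spec.map φ)) {b : DCoh.DQCoh (Spec A) ⥤ DCoh.DQCoh (Spec B)}
    (adj : DCoh.RpushQ (Spec.map φ) hφ ⊣ b) {Rφ : Dual.D A ⥤ Dual.D B}
    (adjR : DRing.restrictD φ.hom ⊣ Rφ) : Nonempty (T A ⋙ b ≅ Rφ ⋙ T B) := by
  haveI := isEquivalence_T A
  haveI := isEquivalence_T B
  let eA := (T A).asEquivalence
  let eB := (T B).asEquivalence
  let κ : T B ⋙ DCoh.RpushQ (Spec.map φ) hφ ≅ DRing.restrictD φ.hom ⋙ T A :=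
    NatIso.ofComponents
      (fun M => (ObjectProperty.fullyFaithfulι _).preimageIso ((AffinePush.tildeD_Rpush_iso φ).app M))
      fun {M N} g => ObjectProperty.hom_ext _ ((AffinePush.tildeD_Rpush_iso φ).hom.naturality g)
  let ν : (T B ⋙ DCoh.RpushQ (Spec.map φ) hφ) ⋙ eA.inverse ≅ DRing.restrictD φ.hom :=
    Functor.isoWhiskerRight κ _ ≪≫ Functor.associator _ _ _ ≪≫
      Functor.isoWhiskerLeft _ eA.unitIso.symm ≪≫ Functor.rightUnitor _
  let adj' := ((eB.toAdjunction.comp adj).comp eA.symm.toAdjunction).ofNatIsoLeft ν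
  let θ : T A ⋙ b ⋙ eB.inverse ≅ Rφ := adj'.rightAdjointUniq adjR
  exact ⟨(Functor.rightUnitor _).symm ≪≫ Functor.isoWhiskerLeft (T A ⋙ b) eB.counitIso.symm ≪≫
    (Functor.associator _ _ _).symm ≪≫ Functor.isoWhiskerRight (θ) (T B)⟩

end Affine

variable [∀ (R : CommRingCat.{u}), PreservesFiniteLimits (tilde.functor R)]

/-- The right adjoint on an affine chart. -/
theorem nonempty_chart_model {A B : Type u} [CommRing A] [CommRing B] [IsNoetherianRing A]
    (f : X ⟶ Spec (CommRingCat.of A)) [IsProper f] [DCoh.HasRpush f] (hf : DCoh.RpushPreservesQCoh f)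
    {a : DCoh.DQCoh (Spec (CommRingCat.of A)) ⥤ DCoh.DQCoh X} (adj : DCoh.RpushQ f hf ⊣ a)
    (j : Spec (CommRingCat.of B) ⟶ X) [IsOpenImmersion j] {n : ℕ}
    (σ : MvPolynomial (Fin n) A →+* B) (hσ : Function.Surjective σ)
    (hj : Spec.map (CommRingCat.ofHom σ) ≫ Spec.map (CommRingCat.ofHom MvPolynomial.C) = j ≫ f)
    {Rσ : Dual.D (MvPolynomial (Fin n) A) ⥤ Dual.D B} (adjσ : DRing.restrictD σ ⊣ Rσ)
    (ω : Dual.D A) (hω : ∃ c, ((DCoh.tildeD (CommRingCat.of A)).obj ω).IsGE c) :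
    Nonempty ((DCoh.restrictD j).obj (a.obj ((T (CommRingCat.of A)).obj ω)).obj ≅
      (DCoh.tildeD (CommRingCat.of B)).obj (Rσ.obj (((L A (MvPolynomial (Fin n) A)).obj ω)⟦(n : ℤ)⟧))) := by
  let P := CohB1.ProjSpace n A
  let p := CohB1.ProjSpace.toSpec n A
  let c := ProjSpace.Basic.chartι (n := n) A 0
  let k := Spec.map (CommRingCat.ofHom σ)
  haveI : IsClosedImmersion k := IsClosedImmersion.spec_of_surjective _ hσ
  haveI := isNoetherian_projSpace (n := n) (R := A)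
  haveI : IsNoetherian (Spec (CommRingCat.of A)) := inferInstance
  let m : Spec (CommRingCat.of B) ⟶ P := k ≫ c
  haveI : IsImmersion m := inferInstance
  haveI : IsNoetherianRing B := isNoetherianRing_of_surjective _ _ σ hσ
  haveI : QuasiCompact m := inferInstance
  let i : m.image ⟶ P := m.imageι
  haveI : IsProper i := inferInstance
  haveI := isNoetherian_of_proper i
  let t := m.toImage
  have ht : t ≫ i = m := Scheme.Hom.toImage_imageι m
  have htf : t ≫ i ≫ p = j ≫ f := by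
    rw [← Category.assoc, ht, Category.assoc, ProjSpace.Basic.chartι_toSpec, hj]
  haveI := DerivedOX.Exists.hasRpush i
  haveI := DerivedOX.Exists.hasRpush p
  haveI := DerivedOX.Exists.hasRpush (i ≫ p)
  haveI := DerivedOX.Exists.hasRpush k
  obtain ⟨bi, ⟨adji⟩⟩ := exists_adj i (preservesQCoh _)
  obtain ⟨ap, ⟨adjp⟩⟩ := exists_adj p (preservesQCoh _)
  obtain ⟨a₃, ⟨adj₃⟩⟩ := exists_adj (i ≫ p) (preservesQCoh _)
  obtain ⟨bk, ⟨adjk⟩⟩ := exists_adj k (preservesQCoh _)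
  obtain ⟨θ⟩ := nonempty_comp_iso i p (preservesQCoh _) (preservesQCoh _) _ adji adjp adj₃
  obtain ⟨eind⟩ := nonempty_indep j f hf adj t (i ≫ p) _ adj₃ htf.symm
  -- the base change square over the chart
  let k' : Spec (CommRingCat.of B) ⟶ (c.opensRange : Scheme.{u}) := k ≫ c.isoOpensRange.hom
  haveI : IsClosedImmersion c.isoOpensRange.hom := inferInstance
  haveI : IsClosedImmersion k' := MorphismProperty.comp_mem @IsClosedImmersion _ _
    (inferInstance : IsClosedImmersion k) (inferInstance : IsClosedImmersion c.isoOpensRange.hom)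
  have hk' : t ≫ i = k' ≫ c.opensRange.ι := by
    rw [ht, Category.assoc, Scheme.Hom.isoOpensRange_hom_ι]
  have hr : t.opensRange = i ⁻¹ᵁ c.opensRange :=
    TopologicalSpace.Opens.ext (eq_preimage t i c.opensRange k' hk')
  let U' := i ⁻¹ᵁ c.opensRange
  let π'' : (U' : Scheme.{u}) ⟶ Spec (CommRingCat.of (MvPolynomial (Fin n) A)) :=
    (i ∣_ c.opensRange) ≫ c.isoOpensRange.inv
  obtain ⟨e, het, hek⟩ := exists_sq i c t k hr ht
  haveI := DerivedOX.Exists.hasRpush (i ∣_ c.opensRange)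
  haveI := DerivedOX.Exists.hasRpush c.isoOpensRange.inv
  haveI := DerivedOX.Exists.hasRpush π''
  haveI := DerivedOX.Exists.hasRpush e.inv
  haveI := DerivedOX.Exists.hasRpush (e.inv ≫ k)
  have congrIso : ∀ {g h : (U' : Scheme.{u}) ⟶ Spec (CommRingCat.of (MvPolynomial (Fin n) A))}
      [DCoh.HasRpush g] [DCoh.HasRpush h], g = h → Nonempty (DCoh.Rpush g ≅ DCoh.Rpush h) := by
    intro g h _ _ e; subst e; exact ⟨Iso.refl _⟩
  obtain ⟨ρ⟩ := congrIso (g := e.inv ≫ k) (h := π'') hek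
  let φ₀ : DCoh.Rpush i ⋙ DCoh.restrictD c ≅ DCoh.restrictD t ⋙ DCoh.Rpush k :=
    bcIsoOpen i c ≪≫ Functor.isoWhiskerLeft _ (ρ.symm ≪≫ (PullComp.rpushCompIso e.inv k).symm ≪≫
      Functor.isoWhiskerRight (pushIso' e.inv e.hom e.hom_inv_id) _) ≪≫
      (Functor.associator _ _ _).symm ≪≫ Functor.isoWhiskerRight (compIso' e.hom U'.ι het) _
  obtain ⟨esq⟩ := nonempty_bc_square i _ adji c t hr k _ adjk φ₀ (Dual3.bddι _ ⋙ ap)
    (bdd_comp p _ adjp)
  let W : (Dual3.IsBddBelowQ (Spec (CommRingCat.of A))).FullSubcategory :=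
    ⟨(T (CommRingCat.of A)).obj ω, hω⟩
  -- on the chart
  let φC : CommRingCat.of A ⟶ CommRingCat.of (MvPolynomial (Fin n) A) := CommRingCat.ofHom MvPolynomial.C
  haveI := LeftExists.hasLpull (Spec.map φC)
  haveI : PreservesFiniteLimits (ModuleCat.extendScalars.{u, u, u} φC.hom) :=
    DR.FlatBC.preservesFiniteLimits (A := A) (B := MvPolynomial (Fin n) A)
  haveI : PreservesFiniteColimits (ModuleCat.extendScalars.{u, u, u} φC.hom) :=
    DR.FlatBC.preservesFiniteColimits (A := A) (B := MvPolynomial (Fin n) A)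
  obtain ⟨ech⟩ := nonempty_a_chart (preservesQCoh p) adjp W.obj
  obtain ⟨eL⟩ := DualSch.Pull.nonempty_Lpull_tilde φC ω
  let M := ((L A (MvPolynomial (Fin n) A)).obj ω)⟦(n : ℤ)⟧
  let eM : (resJ c).obj (ap.obj W.obj) ≅ (T (CommRingCat.of (MvPolynomial (Fin n) A))).obj M :=
    (ObjectProperty.fullyFaithfulι _).preimageIso (ech ≪≫ (shiftFunctor _ (n : ℤ)).mapIso eL ≪≫
      (((DCoh.tildeD (CommRingCat.of (MvPolynomial (Fin n) A))).commShiftIso (n : ℤ)).app _).symm)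
  obtain ⟨ek⟩ := nonempty_adj_tilde (CommRingCat.ofHom σ) (preservesQCoh _) adjk adjσ
  exact ⟨eind.app W ≪≫ (DCoh.restrictD t).mapIso ((ObjectProperty.ι _).mapIso (θ.app W.obj)).symm ≪≫
    esq.app W ≪≫ (ObjectProperty.ι _).mapIso (bk.mapIso eM ≪≫ ek.app M)⟩

end Groth.Agent.Lib.RightAdjCoh.Chart
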