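import Groth.Agent.Lib.RightAdjCoh.Shriek

/-!
# Charts inside a given open
-/

set_option autoImplicit false
set_option linter.style.haveILetI false

universe u

open CategoryTheory Limits AlgebraicGeometry

namespace Groth.Agent.Lib.RightAdjCoh.Chart

variable {X Y : Scheme.{u}}

/-- An affine chart with a presentation inside a given open neighbourhood. -/
theorem exists_chart_in [IsNoetherian Y] (f : X ⟶ Y) [LocallyOfFiniteType f] (x : X) (O : X.Opens)
    (hxO : x ∈ O) :
    ∃ (A B : Type u) (_ : CommRing A) (_ : CommRing B) (_ : Algebra A B) (_ : IsNoetherianRing A)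
      (_ : IsNoetherianRing B) (_ : Algebra.FiniteType A B) (jA : Spec (CommRingCat.of A) ⟶ Y)
      (_ : IsOpenImmersion jA) (j : Spec (CommRingCat.of B) ⟶ X) (_ : IsOpenImmersion j)
      (p : PrimeSpectrum B), j p = x ∧ Set.range j ⊆ O ∧
        j ≫ f = Spec.map (CommRingCat.ofHom (algebraMap A B)) ≫ jA := by
  obtain ⟨V, hV, hxV, -⟩ := exists_isAffineOpen_mem_and_subset (X := Y) (x := f x) (U := ⊤) trivial
  obtain ⟨U, hU, hxU, hUV'⟩ :=
    exists_isAffineOpen_mem_and_subset (X := X) (x := x) (U := f ⁻¹ᵁ V ⊓ O) ⟨hxV, hxO⟩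
  have hUV : U ≤ f ⁻¹ᵁ V := le_trans hUV' inf_le_left
  let φ := f.appLE V U hUV
  letI : Algebra Γ(Y, V) Γ(X, U) := φ.hom.toAlgebra
  haveI : IsNoetherianRing Γ(Y, V) := IsLocallyNoetherian.component_noetherian ⟨V, hV⟩
  have hft : φ.hom.FiniteType := LocallyOfFiniteType.finiteType_appLE f hV hU hUV
  haveI : Algebra.FiniteType Γ(Y, V) Γ(X, U) := hft
  haveI : IsNoetherianRing Γ(X, U) := Algebra.FiniteType.isNoetherianRing Γ(Y, V) Γ(X, U)
  refine ⟨Γ(Y, V), Γ(X, U), inferInstance, inferInstance, inferInstance, inferInstance, inferInstance,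
    inferInstance, hV.fromSpec, inferInstance, hU.fromSpec, inferInstance, hU.primeIdealOf ⟨x, hxU⟩,
    hU.fromSpec_primeIdealOf ⟨x, hxU⟩, ?_, ?_⟩
  · rw [hU.range_fromSpec]
    exact fun a ha => (hUV' ha).2
  · exact (hV.SpecMap_appLE_fromSpec f hU hUV).symm

end Groth.Agent.Lib.RightAdjCoh.Chart
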