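import Groth.Agent.Lib.RightAdjCoh.Indep

/-!
# Composition of upper shrieks
-/

set_option autoImplicit false
set_option linter.unusedSectionVars false
set_option linter.style.haveILetI false

universe u v w

open CategoryTheory Limits AlgebraicGeometry Pretriangulated

attribute [local instance] HasDerivedCategory.standard

namespace Groth.Agent.Lib.RightAdjCoh

open Groth.Agent.Lib DerivedOX Gen43.Restrict RightAdjTensor

variable {U X Y Z : Scheme.{u}}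

/-- For an isomorphism `w` with inverse `v`, `Rw_*` is restriction along `v`. -/
noncomputable def pushIso' (w : U ⟶ X) [IsIso w] [DCoh.HasRpush w] (v : X ⟶ U) [IsOpenImmersion v]
    (h : v ≫ w = 𝟙 X) : DCoh.Rpush w ≅ DCoh.restrictD v :=
  (Functor.rightUnitor _).symm ≪≫
    Functor.isoWhiskerLeft _ ((idIso X).symm ≪≫ (compIso' v w h).symm) ≪≫
    (Functor.associator _ _ _).symm ≪≫
    Functor.isoWhiskerRight (OpenImm.counitIso w) _ ≪≫ Functor.leftUnitor _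

/-- Base change to the preimage of an open subscheme given by an open immersion. -/
noncomputable def bcIsoOpen (π : X ⟶ Y) [DCoh.HasRpush π] (j : U ⟶ Y) [IsOpenImmersion j]
    [DCoh.HasRpush (π ∣_ j.opensRange)] [DCoh.HasRpush j.isoOpensRange.inv]
    [DCoh.HasRpush ((π ∣_ j.opensRange) ≫ j.isoOpensRange.inv)] :
    DCoh.Rpush π ⋙ DCoh.restrictD j ≅ DCoh.restrictD (π ⁻¹ᵁ j.opensRange).ι ⋙
      DCoh.Rpush ((π ∣_ j.opensRange) ≫ j.isoOpensRange.inv) :=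
  Functor.isoWhiskerLeft _
      (compIso' j.isoOpensRange.hom j.opensRange.ι (Scheme.Hom.isoOpensRange_hom_ι j)).symm ≪≫
    (Functor.associator _ _ _).symm ≪≫
    Functor.isoWhiskerRight (RestrictRpush.restrictD_Rpush_iso π j.opensRange) _ ≪≫
    Functor.associator _ _ _ ≪≫
    Functor.isoWhiskerLeft _
      (Functor.isoWhiskerLeft _
          (pushIso' j.isoOpensRange.inv j.isoOpensRange.hom j.isoOpensRange.hom_inv_id).symm ≪≫
        PullComp.rpushCompIso (π ∣_ j.opensRange) j.isoOpensRange.inv)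

/-- Natural restriction of the right adjoint along a base change square with open immersions. -/
theorem nonempty_bc_square {C : Type w} [Category.{v} C] [IsNoetherian X] [IsNoetherian Y] (π : X ⟶ Y)
    [IsProper π] [DCoh.HasRpush π] (hπ : DCoh.RpushPreservesQCoh π)
    {b : DCoh.DQCoh Y ⥤ DCoh.DQCoh X} (adj : DCoh.RpushQ π hπ ⊣ b)
    (j : U ⟶ Y) [IsOpenImmersion j] {U' : Scheme.{u}} (j' : U' ⟶ X) [IsOpenImmersion j']
    (hr : j'.opensRange = π ⁻¹ᵁ j.opensRange) (π' : U' ⟶ U) [DCoh.HasRpush π']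
    (hπ' : DCoh.RpushPreservesQCoh π') {b' : DCoh.DQCoh U ⥤ DCoh.DQCoh U'}
    (adj' : DCoh.RpushQ π' hπ' ⊣ b')
    (φ₀ : DCoh.Rpush π ⋙ DCoh.restrictD j ≅ DCoh.restrictD j' ⋙ DCoh.Rpush π')
    (F : C ⥤ DCoh.DQCoh Y) (hF : ∀ A, ∃ c, (F.obj A).obj.IsGE c) :
    Nonempty (F ⋙ b ⋙ ObjectProperty.ι _ ⋙ DCoh.restrictD j' ≅
      F ⋙ resJ j ⋙ b' ⋙ ObjectProperty.ι _) := by
  haveI := DerivedOX.Exists.hasRpush j
  haveI := DerivedOX.Exists.hasRpush j'
  haveI : QuasiCompact j := inferInstance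
  haveI : QuasiCompact j' := inferInstance
  haveI := additive_a π hπ adj
  letI := adj.rightAdjointCommShift ℤ
  haveI := adj.commShift_of_leftAdjoint ℤ
  haveI : b.IsTriangulated := adj.isTriangulated_rightAdjoint
  let φ : DCoh.RpushQ π hπ ⋙ resJ j ≅ resJ j' ⋙ DCoh.RpushQ π' hπ' :=
    NatIso.ofComponents
      (fun G => (ObjectProperty.fullyFaithfulι _).preimageIso (φ₀.app G.obj))
      fun {G G'} g => ObjectProperty.hom_ext _ (φ₀.hom.naturality g.hom)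
  let θ : pushJ j ⋙ b ≅ b' ⋙ pushJ j' :=
    ((adj.comp (resPushJ j)).ofNatIsoLeft φ).rightAdjointUniq ((resPushJ j').comp adj')
  let G := ObjectProperty.ι (DCoh.IsQCohD (X := X)) ⋙ DCoh.restrictD j'
  let η : F ⋙ b ⋙ G ⟶ F ⋙ (resJ j ⋙ pushJ j) ⋙ b ⋙ G :=
    Functor.whiskerLeft F (Functor.whiskerRight (resPushJ j).unit (b ⋙ G))
  have hη : ∀ A, IsIso (η.app A) := fun A => by
    obtain ⟨c, hc⟩ := hF A
    haveI := hc
    let u := (resPushJ j).unit.app (F.obj A)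
    obtain ⟨T, q, r, hT⟩ := distinguished_cocone_triangle u
    have hTo := (ObjectProperty.ι (DCoh.IsQCohD (X := Y))).map_distinguished _ hT
    have hu : IsIso ((DCoh.restrictD j).map u.hom) := by
      rw [resPushJ_unit]; exact isIso_restrict_unit j _
    have hTj : IsZero ((DCoh.restrictD j).obj T.obj) :=
      ((Triangle.isZero₃_iff_isIso₁ _ ((DCoh.restrictD j).map_distinguished _ hTo)).2 hu)
    have hTV : Van j.opensRange T.obj := (isZero_restrictD_iff_van j T.obj).1 hTj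
    have hgeR : ((DCoh.Rpush j).obj ((DCoh.restrictD j).obj (F.obj A).obj)).IsGE c := by
      haveI : ((DCoh.restrictD j).obj (F.obj A).obj).IsGE c := (DerivedCategory.isGE_iff _ _).2
        fun i hi => ((Scheme.Modules.restrictFunctor j).map_isZero
          ((DerivedCategory.isGE_iff _ _).1 hc i hi)).of_iso (Perfect.Coherent.homologyIso j _ i)
      exact SchColim29.CohPush.Rpush_isGE j _ c
    have hTb : T.obj.IsGE (c - 1) := SupportsBdd.isGE₃ _ hTo hc hgeR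
    have hv := SupportsBdd.van_a π hπ adj (fun M d hd =>
      RightAdjTensor.preservesColimit_of_isGE π hπ adj _ d fun _ => hd) T ⟨_, hTb⟩ hTV
    rw [← hr] at hv
    have hz := (isZero_restrictD_iff_van j' (b.obj T).obj).2 hv
    exact (Triangle.isZero₃_iff_isIso₁ _ ((DCoh.restrictD j').map_distinguished _
      ((ObjectProperty.ι (DCoh.IsQCohD (X := X))).map_distinguished _ (b.map_distinguished _ hT)))).1 hz
  haveI : IsIso η := @NatIso.isIso_of_isIso_app _ _ _ _ _ _ η hη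
  exact ⟨asIso η ≪≫ Functor.isoWhiskerLeft F
    (Functor.isoWhiskerLeft (resJ j) (Functor.isoWhiskerRight θ G) ≪≫
      Functor.isoWhiskerLeft (resJ j ⋙ b' ⋙ ObjectProperty.ι _) (OpenImm.counitIso j') ≪≫
      Functor.rightUnitor _)⟩

/-- The right adjoint of a composite, computed through compactifications. -/
theorem nonempty_shriek_comp [IsNoetherian Z] {Xf Yg W : Scheme.{u}} (f : X ⟶ Y)
    (jf : X ⟶ Xf) [IsOpenImmersion jf] (pf : Xf ⟶ Y) [IsProper pf] [DCoh.HasRpush pf] (hjf : jf ≫ pf = f)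
    (hf : DCoh.RpushPreservesQCoh pf) {a : DCoh.DQCoh Y ⥤ DCoh.DQCoh Xf} (adjf : DCoh.RpushQ pf hf ⊣ a)
    (jg : Y ⟶ Yg) [IsOpenImmersion jg] (pg : Yg ⟶ Z) [IsProper pg] [DCoh.HasRpush pg]
    (hg : DCoh.RpushPreservesQCoh pg) {b : DCoh.DQCoh Z ⥤ DCoh.DQCoh Yg} (adjg : DCoh.RpushQ pg hg ⊣ b)
    (jh : X ⟶ W) [IsOpenImmersion jh] (ph : W ⟶ Z) [IsProper ph] [DCoh.HasRpush ph]
    (hh : DCoh.RpushPreservesQCoh ph) {c : DCoh.DQCoh Z ⥤ DCoh.DQCoh W} (adjh : DCoh.RpushQ ph hh ⊣ c)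
    (hw : jh ≫ ph = f ≫ jg ≫ pg) :
    Nonempty (Dual3.bddι Z ⋙ c ⋙ ObjectProperty.ι _ ⋙ DCoh.restrictD jh ≅
      (Dual3.bddι Z ⋙ b ⋙ resJ jg) ⋙ a ⋙ ObjectProperty.ι _ ⋙ DCoh.restrictD jf) := by
  haveI := isNoetherian_of_proper pg
  haveI := isNoetherian_of_proper ph
  haveI : IsNoetherian X :=
    { toIsLocallyNoetherian := isLocallyNoetherian_of_isOpenImmersion jh
      toCompactSpace := QuasiCompact.compactSpace_of_compactSpace jh }
  haveI : IsNoetherian Y :=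
    { toIsLocallyNoetherian := isLocallyNoetherian_of_isOpenImmersion jg
      toCompactSpace := QuasiCompact.compactSpace_of_compactSpace jg }
  let m : X ⟶ pullback ph pg := pullback.lift jh (f ≫ jg) (by simpa using hw)
  haveI : IsImmersion (m ≫ pullback.fst ph pg) := by rw [pullback.lift_fst]; infer_instance
  haveI : IsImmersion m := IsImmersion.of_comp m (pullback.fst ph pg)
  haveI : IsProper (pullback.fst ph pg) := MorphismProperty.pullback_fst _ _ (inferInstance : IsProper pg)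
  haveI : IsProper (pullback.snd ph pg) := MorphismProperty.pullback_snd _ _ (inferInstance : IsProper ph)
  haveI : IsLocallyNoetherian (pullback ph pg) :=
    LocallyOfFiniteType.isLocallyNoetherian (pullback.fst ph pg)
  haveI : QuasiCompact m := inferInstance
  let π₁ : m.image ⟶ W := m.imageι ≫ pullback.fst ph pg
  let π₂ : m.image ⟶ Yg := m.imageι ≫ pullback.snd ph pg
  haveI : IsProper π₁ := inferInstance
  haveI : IsProper π₂ := inferInstance
  haveI := isNoetherian_of_proper π₁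
  let t := m.toImage
  have ht₁ : t ≫ π₁ = jh := by rw [← Category.assoc, Scheme.Hom.toImage_imageι, pullback.lift_fst]
  have ht₂ : t ≫ π₂ = f ≫ jg := by rw [← Category.assoc, Scheme.Hom.toImage_imageι, pullback.lift_snd]
  haveI := DerivedOX.Exists.hasRpush π₁
  haveI := DerivedOX.Exists.hasRpush π₂
  haveI := DerivedOX.Exists.hasRpush (π₁ ≫ ph)
  obtain ⟨b₁, ⟨adjb₁⟩⟩ := exists_adj π₁ (preservesQCoh _)
  obtain ⟨b₂, ⟨adjb₂⟩⟩ := exists_adj π₂ (preservesQCoh _)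
  obtain ⟨a₃, ⟨adj₃⟩⟩ := exists_adj (π₁ ≫ ph) (preservesQCoh _)
  obtain ⟨θ₁⟩ := nonempty_comp_iso π₁ ph (preservesQCoh _) hh _ adjb₁ adjh adj₃
  have hfg : π₁ ≫ ph = π₂ ≫ pg := by simp only [π₁, π₂, Category.assoc, pullback.condition]
  have key : ∀ (h : m.image ⟶ Z), h = π₂ ≫ pg → ∀ [DCoh.HasRpush h]
      (h' : DCoh.RpushPreservesQCoh h) (d : DCoh.DQCoh Z ⥤ DCoh.DQCoh m.image),
      (DCoh.RpushQ h h' ⊣ d) → Nonempty (b ⋙ b₂ ≅ d) := by
    rintro h rfl _ h' d adjd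
    exact nonempty_comp_iso π₂ pg (preservesQCoh π₂) hg h' adjb₂ adjg adjd
  obtain ⟨θ₂⟩ := key (π₁ ≫ ph) hfg _ a₃ adj₃
  obtain ⟨e₁⟩ := nonempty_bc_natIso π₁ _ adjb₁ jh t ht₁ (range_eq_preimage t π₁ jh ht₁)
    (Dual3.bddι Z ⋙ c) (bdd_comp ph hh adjh)
  -- over the open `Y` of `Yg`
  let U' := π₂ ⁻¹ᵁ jg.opensRange
  let π' : (U' : Scheme.{u}) ⟶ Y := (π₂ ∣_ jg.opensRange) ≫ jg.isoOpensRange.inv
  haveI : IsProper (π₂ ∣_ jg.opensRange) := IsZariskiLocalAtTarget.restrict (‹IsProper π₂› : IsProper π₂) _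
  haveI : IsProper π' := inferInstance
  haveI := isNoetherian_of_proper π'
  haveI := DerivedOX.Exists.hasRpush (π₂ ∣_ jg.opensRange)
  haveI := DerivedOX.Exists.hasRpush jg.isoOpensRange.inv
  haveI := DerivedOX.Exists.hasRpush π'
  obtain ⟨b', ⟨adjb'⟩⟩ := exists_adj π' (preservesQCoh _)
  obtain ⟨e₂⟩ := nonempty_bc_square π₂ _ adjb₂ jg U'.ι (Scheme.Opens.opensRange_ι _) π' _ adjb'
    (bcIsoOpen π₂ jg) (Dual3.bddι Z ⋙ b) (bdd_comp pg hg adjg)
  have hsub : Set.range t ⊆ Set.range U'.ι := by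
    rw [Scheme.Opens.range_ι]
    rintro _ ⟨x, rfl⟩
    show π₂ (t x) ∈ jg.opensRange
    rw [← Scheme.Hom.comp_apply, ht₂, Scheme.Hom.comp_apply]
    exact ⟨f x, rfl⟩
  let t' : X ⟶ U' := IsOpenImmersion.lift U'.ι t hsub
  have ht' : t' ≫ U'.ι = t := IsOpenImmersion.lift_fac _ _ _
  haveI : IsOpenImmersion (t' ≫ U'.ι) := by rw [ht']; infer_instance
  haveI : IsOpenImmersion t' := IsOpenImmersion.of_comp t' U'.ι
  have hπ' : π' ≫ jg = U'.ι ≫ π₂ := by
    simp only [π', Category.assoc, Scheme.Hom.isoOpensRange_inv_comp, morphismRestrict_ι]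
    rfl
  have hf' : t' ≫ π' = f := by
    rw [← cancel_mono jg, Category.assoc, hπ', ← Category.assoc, ht', ht₂]
  obtain ⟨e₃⟩ := nonempty_indep t' π' _ adjb' jf pf hf adjf (hf'.trans hjf.symm)
  let FY : (Dual3.IsBddBelowQ Z).FullSubcategory ⥤ (Dual3.IsBddBelowQ Y).FullSubcategory :=
    ObjectProperty.lift _ (Dual3.bddι Z ⋙ b ⋙ resJ jg) fun A => by
      obtain ⟨d, hd⟩ := bdd_comp pg hg adjg A
      exact ⟨d, (DerivedCategory.isGE_iff _ _).2 fun i hi =>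
        ((Scheme.Modules.restrictFunctor jg).map_isZero
          ((DerivedCategory.isGE_iff _ _).1 hd i hi)).of_iso (Perfect.Coherent.homologyIso jg _ i)⟩
  let G := ObjectProperty.ι (DCoh.IsQCohD (X := m.image)) ⋙ DCoh.restrictD t
  let A₁ : Dual3.bddι Z ⋙ c ⋙ ObjectProperty.ι _ ⋙ DCoh.restrictD jh ≅
      Dual3.bddι Z ⋙ (c ⋙ b₁) ⋙ G := e₁.symm
  let A₂ : Dual3.bddι Z ⋙ (b ⋙ b₂) ⋙ G ≅
      ((Dual3.bddι Z ⋙ b) ⋙ b₂ ⋙ ObjectProperty.ι _ ⋙ DCoh.restrictD U'.ι) ⋙ DCoh.restrictD t' :=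
    Functor.isoWhiskerLeft ((Dual3.bddι Z ⋙ b) ⋙ b₂ ⋙ ObjectProperty.ι _)
      (compIso' t' U'.ι ht').symm
  let A₃ : ((Dual3.bddι Z ⋙ b) ⋙ resJ jg ⋙ b' ⋙ ObjectProperty.ι _) ⋙ DCoh.restrictD t' ≅
      (Dual3.bddι Z ⋙ b ⋙ resJ jg) ⋙ a ⋙ ObjectProperty.ι _ ⋙ DCoh.restrictD jf :=
    Functor.isoWhiskerLeft FY e₃
  exact ⟨A₁ ≪≫ Functor.isoWhiskerLeft (Dual3.bddι Z) (Functor.isoWhiskerRight (θ₁ ≪≫ θ₂.symm) G) ≪≫
    A₂ ≪≫ Functor.isoWhiskerRight e₂ _ ≪≫ A₃⟩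

end Groth.Agent.Lib.RightAdjCoh
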