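import Groth.Agent.Lib.RightAdjTensor.Finite
import Groth.Agent.Lib.SchColim29.CohPush
import Groth.Agent.Lib.DerivedOX.DualHomExists
import Groth.Agent.S1116

/-!
# `Rf_* a ≅ RHom(Rf_*O, -)` objectwise, and coherence of `Rf_* a` for proper `f`
-/

set_option autoImplicit false
set_option linter.unusedSectionVars false
set_option linter.style.haveILetI false

universe u

open CategoryTheory Limits AlgebraicGeometry Pretriangulated

attribute [local instance] HasDerivedCategory.standard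

namespace Groth.Agent.Lib.RightAdjCoh

open Groth.Agent.Lib DerivedOX RightAdjTensor

variable {X Y : Scheme.{u}} (f : X ⟶ Y)

/-- Projection formula `Rf_*Lf^*M ≅ M ⊗ Rf_*O` for a proper morphism. -/
theorem exists_projIso [IsNoetherian X] [IsNoetherian Y] [IsProper f] [DCoh.HasRpush f]
    [DCoh.HasLpull f] :
    ∃ (E : CochainComplex Y.Modules ℤ) (_ : DCoh.HasLTensorCx E) (_ : DCoh.HasRSheafHom E),
      DCoh.IsCohD (DCoh.toD Y E) ∧ (∃ b, (DCoh.toD Y E).IsLE b) ∧
      Nonempty (ObjectProperty.ι (DCoh.IsQCohD (X := Y)) ⋙ DCoh.LTensorCx E ≅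
        ObjectProperty.ι _ ⋙ DCoh.Lpull f ⋙ DCoh.Rpush f) := by
  let O₁ : CochainComplex X.Modules ℤ := DualFree.one X
  obtain ⟨I, i, hI, hi⟩ := DerCat.KInjExists.hasKInjRes O₁
  haveI := hI
  haveI := hi
  have hO : Coh.IsCoh (Coh.structureModule X) := Snapper.Twist.isCoh_structureModule X
  haveI := hO.2
  let B := (KFlat.res Y).obj ((GammaAcyclic.pushC f).obj I)
  let g : B ⟶ (GammaAcyclic.pushC f).obj I := (KFlat.aug Y).app _
  haveI : QuasiIso g := KFlat.quasiIso_aug _
  haveI := LeftExists.hasLTensorCx B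
  haveI := DualHomExists.hasRSheafHom B
  haveI := LeftExists.hasLTensorCx I
  haveI : IsIso (DerivedCategory.Q.map i) := (DerivedCategory.isIso_Q_map_iff_quasiIso _ _).2 hi
  haveI : IsIso (DerivedCategory.Q.map g) :=
    (DerivedCategory.isIso_Q_map_iff_quasiIso _ _).2 inferInstance
  haveI := UnitCx.isIso_unitCx_of_isKInjective f I
  let eI : DerivedCategory.Q.obj I ≅ DCoh.inD X (Coh.structureModule X) :=
    (asIso (DerivedCategory.Q.map i)).symm ≪≫
      ((DerivedCategory.singleFunctorIsoCompQ X.Modules 0).app _).symm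
  let eR : DCoh.toD Y B ≅ (DCoh.Rpush f).obj (DCoh.inD X (Coh.structureModule X)) :=
    asIso (DerivedCategory.Q.map g) ≪≫ asIso ((UnitCx.unitCx f).app I) ≪≫ (DCoh.Rpush f).mapIso eI
  haveI h0ge : (DCoh.inD X (Coh.structureModule X)).IsGE 0 := inferInstance
  haveI h0le : (DCoh.inD X (Coh.structureModule X)).IsLE 0 := inferInstance
  have hPS : WayOut.Bounded.HasP (SchColim29.CohPush.PS f) (DCoh.inD X (Coh.structureModule X)) :=
    fun n => by
      by_cases hn : n = 0
      · subst hn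
        exact (SchColim29.CohPush.PS f).prop_of_iso
          ((DerivedCategory.singleFunctorCompHomologyFunctorIso _ 0).app _).symm
          (show SchColim29.CohPush.PS f (Coh.structureModule X) from
            ⟨hO, Modules.Support.isClosed_support _, inferInstance⟩)
      · have hz : IsZero ((DerivedCategory.homologyFunctor X.Modules n).obj
            (DCoh.inD X (Coh.structureModule X))) := by
          rcases lt_or_gt_of_ne hn with h | h
          · exact (DerivedCategory.isGE_iff _ 0).1 h0ge n h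
          · exact (DerivedCategory.isLE_iff _ 0).1 h0le n h
        exact (SchColim29.CohPush.PS f).prop_of_isZero hz
  refine ⟨B, inferInstance, inferInstance, fun n => CohBasics.Closure.isCoh_of_iso
    ((DerivedCategory.homologyFunctor Y.Modules n).mapIso eR).symm
      (SchColim29.CohPush.isCohD_Rpush f _ hPS 0 n), ?_, ?_⟩
  · obtain ⟨b, hb⟩ := SchColim29.CohPush.exists_isLE_Rpush f _ hPS 0 0
    exact ⟨b, (DerivedCategory.isLE_iff _ _).2 fun n hn => ((DerivedCategory.isLE_iff _ _).1 hb n hn).of_iso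
      ((DerivedCategory.homologyFunctor Y.Modules n).mapIso eR)⟩
  have hIq : DCoh.IsQCohD (DerivedCategory.Q.obj I) :=
    (DCoh.IsQCohD (X := X)).prop_of_iso eI.symm
      (Perfect.QCohD.isQCohD_of_isPerfect (Gen43.Affine.isPerfect_oneD' X))
  let ι := ObjectProperty.ι (DCoh.IsQCohD (X := Y))
  haveI : IsIso (Functor.whiskerLeft ι (ProjectionMap.projMap f g)) := by
    haveI : ∀ K, IsIso ((Functor.whiskerLeft ι (ProjectionMap.projMap f g)).app K) := fun K =>
      ProjectionQCoh.isIso_projMap_of_isQCohD hIq K.property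
    exact NatIso.isIso_of_isIso_app _
  obtain ⟨θ₃⟩ := Finite.nonempty_tensorUnit I i
  exact ⟨asIso (Functor.whiskerLeft ι (ProjectionMap.projMap f g)) ≪≫
    Functor.isoWhiskerLeft ι (Functor.isoWhiskerLeft (DCoh.Lpull f)
      (Functor.isoWhiskerRight θ₃ (DCoh.Rpush f) ≪≫ Functor.leftUnitor _))⟩

/-- `Rf_* a(K)` has coherent cohomology for `K` in `D⁺_Coh`. -/
theorem isCohD_Rpush_a [IsNoetherian X] [IsNoetherian Y] [IsProper f] [DCoh.HasRpush f]
    (hf : DCoh.RpushPreservesQCoh f) {a : DCoh.DQCoh Y ⥤ DCoh.DQCoh X} (adj : DCoh.RpushQ f hf ⊣ a)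
    (K : DCoh.DQCoh Y) (hK : DCoh.IsCohD K.obj) (c : ℤ) [K.obj.IsGE c] :
    DCoh.IsCohD ((DCoh.Rpush f).obj (a.obj K).obj) := by
  haveI := LeftExists.hasLpull f
  obtain ⟨E, hT, hH, hc, ⟨b, hb⟩, ⟨π⟩⟩ := exists_projIso f
  haveI := hb
  have hR := Groth.Agent.S1116.result Y E b hc K.obj c hK
  let T : DCoh.DQCoh Y := ⟨_, fun n => (hR.1 n).1⟩
  let hL : Dual3.LpullPreservesQCoh f := fun _ h => QCohLocal.isQCohD_Lpull f h
  let adjP : Dual3.LpullQ f hL ⊣ DCoh.RpushQ f hf :=
    (PullPushAdj.derivedAdjunction f).restrictFullyFaithful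
      (ObjectProperty.fullyFaithfulι _) (ObjectProperty.fullyFaithfulι _) (Iso.refl _) (Iso.refl _)
  let A := adjP.comp adj
  let H := DCoh.RSheafHomAdj E
  let R1 := a ⋙ DCoh.RpushQ f hf
  let φ : (R1.obj K).obj ⟶ (DCoh.RSheafHom E).obj K.obj :=
    H.homEquiv _ _ (π.hom.app (R1.obj K) ≫ (A.counit.app K).hom)
  let ψ : R1.obj K ⟶ T := ObjectProperty.homMk φ
  haveI : IsIso ψ := by
    refine isIso_of_yoneda_map_bijective _ fun M => ?_
    let e₁ : (M ⟶ R1.obj K) ≃ ((DCoh.Lpull f ⋙ DCoh.Rpush f).obj M.obj ⟶ K.obj) :=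
      (A.homEquiv M K).symm.trans (ObjectProperty.fullyFaithfulι _).homEquiv
    let e₂ : ((DCoh.Lpull f ⋙ DCoh.Rpush f).obj M.obj ⟶ K.obj) ≃ (M ⟶ T) :=
      ((Iso.homCongr (π.app M).symm (Iso.refl _)).trans (H.homEquiv _ _)).trans
        ((ObjectProperty.fullyFaithfulι (DCoh.IsQCohD (X := Y))).homEquiv (X := M) (Y := T)).symm
    have he : (fun g : M ⟶ R1.obj K => g ≫ ψ) = e₁.trans e₂ := funext fun g => by
      apply ObjectProperty.hom_ext
      change g.hom ≫ H.homEquiv _ _ _ = H.homEquiv _ _ _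
      rw [← H.homEquiv_naturality_left]
      refine congrArg _ ?_
      change _ = π.hom.app M ≫ ((A.homEquiv M K).symm g).hom ≫ 𝟙 _
      rw [Category.comp_id, A.homEquiv_counit]
      have hn := π.hom.naturality g
      dsimp at hn ⊢
      rw [reassoc_of% hn]
    rw [he]
    exact (e₁.trans e₂).bijective
  exact fun n => CohBasics.Closure.isCoh_of_iso
    ((DerivedCategory.homologyFunctor _ n).mapIso ((ObjectProperty.ι _).mapIso (asIso ψ))).symm (hR.1 n)

end Groth.Agent.Lib.RightAdjCoh
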