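import Groth.Agent.Lib.RightAdjCoh.Chart
import Groth.Agent.Lib.DualSch.Local
import Groth.Agent.Lib.DMod.Gorenstein
import Groth.Agent.Lib.GenBdd.Basic

/-!
# The right adjoint of a proper morphism preserves dualizing complexes
-/

set_option autoImplicit false
set_option linter.unusedSectionVars false
set_option linter.style.haveILetI false
set_option backward.isDefEq.respectTransparency false

universe u

open CategoryTheory Limits AlgebraicGeometry Pretriangulated

attribute [local instance] HasDerivedCategory.standard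

namespace Groth.Agent.Lib.RightAdjCoh.Chart

open Groth.Agent.Lib DerivedOX Gen43.Restrict RightAdjTensor
open Groth.Agent.Lib.DMod.FlatHom (L E)

variable [∀ (R : CommRingCat.{u}), PreservesFiniteLimits (tilde.functor R)]

/-- Restriction of scalars between derived categories of rings has a right adjoint. -/
theorem exists_adjR {A B : CommRingCat.{u}} (φ : A ⟶ B) :
    ∃ Rφ : Dual.D A ⥤ Dual.D B, Nonempty (DRing.restrictD φ.hom ⊣ Rφ) := by
  haveI := DerivedOX.Exists.hasRpush (Spec.map φ)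
  obtain ⟨b, ⟨adj⟩⟩ := exists_adj (Spec.map φ) (preservesQCoh _)
  haveI := isEquivalence_T A
  haveI := isEquivalence_T B
  let eA := (T A).asEquivalence
  let eB := (T B).asEquivalence
  let κ : T B ⋙ DCoh.RpushQ (Spec.map φ) (preservesQCoh _) ≅ DRing.restrictD φ.hom ⋙ T A :=
    NatIso.ofComponents
      (fun M => (ObjectProperty.fullyFaithfulι _).preimageIso ((AffinePush.tildeD_Rpush_iso φ).app M))
      fun {M N} g => ObjectProperty.hom_ext _ ((AffinePush.tildeD_Rpush_iso φ).hom.naturality g)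
  let ν : (T B ⋙ DCoh.RpushQ (Spec.map φ) (preservesQCoh _)) ⋙ eA.inverse ≅ DRing.restrictD φ.hom :=
    Functor.isoWhiskerRight κ _ ≪≫ Functor.associator _ _ _ ≪≫
      Functor.isoWhiskerLeft _ eA.unitIso.symm ≪≫ Functor.rightUnitor _
  exact ⟨_, ⟨((eB.toAdjunction.comp adj).comp eA.symm.toAdjunction).ofNatIsoLeft ν⟩⟩

/-- A dualizing complex is bounded below in cohomology. -/
theorem exists_subsingleton_HD {A : Type u} [CommRing A] {ω : Dual.D A} (hω : Dual.IsDualizing A ω) :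
    ∃ a : ℤ, ∀ i, i < a → Subsingleton (Dual.HD A ω i) := by
  obtain ⟨a, b, h⟩ := hω.finite_injective_dimension
  exact ⟨a, fun i hi => haveI := h A i (Or.inl hi)
    (DMod.Basic.homUnitShiftEquiv ω i).symm.toEquiv.subsingleton⟩

theorem exists_isGE_tildeD {A : Type u} [CommRing A] {ω : Dual.D A} (hω : Dual.IsDualizing A ω) :
    ∃ a, ((DCoh.tildeD (CommRingCat.of A)).obj ω).IsGE a := by
  obtain ⟨a, ha⟩ := exists_subsingleton_HD hω
  refine ⟨a, (DerivedCategory.isGE_iff _ _).2 fun i hi => ?_⟩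
  haveI := ha i hi
  exact (Functor.map_isZero _ (ModuleCat.isZero_iff_subsingleton.2 (ha i hi))).of_iso
    (KoszulOrth36.Sheaf.HI (CommRingCat.of A) ω i)

variable {X Y : Scheme.{u}}

/-- A dualizing complex on a quasi-compact scheme is bounded below. -/
theorem exists_isGE_of_dualizing [CompactSpace Y]
    [∀ (U : Scheme.{u}) (j : U ⟶ Y) [IsOpenImmersion j], PreservesFiniteLimits (Scheme.Modules.restrictFunctor j)]
    {K : DCoh.D Y} (hK : Dual2.IsDualizingSch Y K) : ∃ c, K.IsGE c := by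
  classical
  have h : ∀ x : Y, ∃ (U : Y.Opens) (c : ℤ), x ∈ U ∧
      ∀ i, i < c → ∀ y ∈ U, y ∉ CohB1.support (DCoh.HD K i) := fun x => by
    let y₀ := Y.affineCover.idx x
    let j := Y.affineCover.f y₀
    obtain ⟨A, hA⟩ : ∃ A : CommRingCat.{u}, Y.affineCover.X y₀ = Spec A := ⟨_, rfl⟩
    obtain ⟨ω, hω, ⟨e⟩⟩ := hK _ j
    obtain ⟨c, hc⟩ := exists_isGE_tildeD hω
    refine ⟨j.opensRange, c, Y.affineCover.covers x, fun i hi y hy => ?_⟩
    exact (GenBdd.isZero_restrict_iff j K i).1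
      (((DerivedCategory.isGE_iff _ _).1 hc i hi).of_iso ((DerivedCategory.homologyFunctor _ i).mapIso e)) y hy
  choose U c hxU hc using h
  obtain ⟨t, ht⟩ := (inferInstance : CompactSpace Y).isCompact_univ.elim_finite_subcover
    (fun x => (U x : Set Y)) (fun x => (U x).isOpen) fun x _ => Set.mem_iUnion.2 ⟨x, hxU x⟩
  obtain ⟨lb, hlb⟩ := (t.finite_toSet.image c).bddBelow
  refine ⟨lb, (DerivedCategory.isGE_iff _ _).2 fun i hi =>
    Modules.Support.support_eq_empty_iff.1 (Set.eq_empty_of_forall_notMem fun y => ?_)⟩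
  obtain ⟨x, hx, hy⟩ := Set.mem_iUnion₂.1 (ht (Set.mem_univ y))
  exact hc x i (lt_of_lt_of_le hi (hlb ⟨x, hx, rfl⟩)) y hy

/-- The right adjoint of a proper morphism preserves dualizing complexes. -/
theorem isDualizingSch_a [IsNoetherian Y]
    [∀ (U : Scheme.{u}) (j : U ⟶ X) [IsOpenImmersion j], PreservesFiniteLimits (Scheme.Modules.restrictFunctor j)]
    [∀ (U : Scheme.{u}) (j : U ⟶ Y) [IsOpenImmersion j], PreservesFiniteLimits (Scheme.Modules.restrictFunctor j)]
    (f : X ⟶ Y) [IsProper f] [DCoh.HasRpush f] (hf : DCoh.RpushPreservesQCoh f)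
    {a : DCoh.DQCoh Y ⥤ DCoh.DQCoh X} (adj : DCoh.RpushQ f hf ⊣ a) (K : DCoh.DQCoh Y)
    (hK : Dual2.IsDualizingSch Y K.obj) : Dual2.IsDualizingSch X (a.obj K).obj := by
  haveI := isNoetherian_of_proper f
  obtain ⟨c₀, hc₀⟩ := exists_isGE_of_dualizing hK
  refine DualSch.Local.isDualizingSch_of_cover _ fun x => ?_
  obtain ⟨V, hV, hxV, -⟩ := exists_isAffineOpen_mem_and_subset (X := Y) (x := f.base x) (U := ⊤) trivial
  let A := Γ(Y, V)
  haveI : IsNoetherianRing A := IsLocallyNoetherian.component_noetherian ⟨V, hV⟩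
  let jA : Spec (CommRingCat.of A) ⟶ Y := hV.fromSpec
  obtain ⟨ω, hω, ⟨eω⟩⟩ := hK A jA
  let W := f ⁻¹ᵁ jA.opensRange
  let g : (W : Scheme.{u}) ⟶ Spec (CommRingCat.of A) := (f ∣_ jA.opensRange) ≫ jA.isoOpensRange.inv
  haveI : IsProper (f ∣_ jA.opensRange) := IsZariskiLocalAtTarget.restrict (‹IsProper f› : IsProper f) _
  haveI : IsProper g := inferInstance
  haveI := DerivedOX.Exists.hasRpush (f ∣_ jA.opensRange)
  haveI := DerivedOX.Exists.hasRpush jA.isoOpensRange.inv
  haveI := DerivedOX.Exists.hasRpush g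
  haveI : IsNoetherian (Spec (CommRingCat.of A)) := inferInstance
  haveI := isNoetherian_of_proper g
  obtain ⟨b, ⟨adjb⟩⟩ := exists_adj g (preservesQCoh _)
  obtain ⟨esq⟩ := nonempty_bc_square f _ adj jA W.ι (Scheme.Opens.opensRange_ι _) g _ adjb
    (bcIsoOpen f jA) (Dual3.bddι Y) (fun A => A.property)
  have hxW : x ∈ W := by
    change f.base x ∈ jA.opensRange
    rw [show jA.opensRange = V from TopologicalSpace.Opens.ext hV.range_fromSpec]
    exact hxV
  obtain ⟨U, hU, hxU, -⟩ :=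
    exists_isAffineOpen_mem_and_subset (X := (W : Scheme.{u})) (x := ⟨x, hxW⟩) (U := ⊤) trivial
  let B := Γ((W : Scheme.{u}), U)
  let j : Spec (CommRingCat.of B) ⟶ (W : Scheme.{u}) := hU.fromSpec
  obtain ⟨φ, hφ⟩ := Spec.map_surjective (j ≫ g)
  have hft : φ.hom.FiniteType := by
    have h1 : LocallyOfFiniteType (Spec.map φ) := by rw [hφ]; infer_instance
    exact (HasRingHomProperty.Spec_iff (P := @LocallyOfFiniteType)).1 h1
  letI : Algebra A B := φ.hom.toAlgebra
  haveI : Algebra.FiniteType A B := hft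
  obtain ⟨n, σ, hσ⟩ := Algebra.FiniteType.iff_quotient_mvPolynomial''.1
    (inferInstance : Algebra.FiniteType A B)
  have hj : Spec.map (CommRingCat.ofHom σ.toRingHom) ≫ Spec.map (CommRingCat.ofHom MvPolynomial.C) =
      j ≫ g := by
    rw [← hφ, ← Spec.map_comp]
    exact congrArg Spec.map (CommRingCat.hom_ext (RingHom.ext fun r => σ.commutes r))
  obtain ⟨Rσ, ⟨adjσ⟩⟩ := exists_adjR (CommRingCat.ofHom σ.toRingHom)
  obtain ⟨e⟩ := nonempty_chart_model g _ adjb j σ.toRingHom hσ hj adjσ ω (exists_isGE_tildeD hω)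
  let eK : (resJ jA).obj K ≅ (T (CommRingCat.of A)).obj ω := (ObjectProperty.fullyFaithfulι _).preimageIso eω
  haveI : IsNoetherianRing B := isNoetherianRing_of_surjective _ _ σ.toRingHom hσ
  refine ⟨B, inferInstance, j ≫ W.ι, inferInstance, _, ?_, ?_,
    ⟨(compIso' j W.ι rfl).symm.app _ ≪≫
      (DCoh.restrictD j).mapIso (esq.app ⟨K, c₀, hc₀⟩ ≪≫ (ObjectProperty.ι _).mapIso (b.mapIso eK)) ≪≫ e⟩⟩
  · refine ⟨(hU.isoSpec.hom ⟨⟨x, hxW⟩, hxU⟩), ?_⟩
    have : j (hU.isoSpec.hom ⟨⟨x, hxW⟩, hxU⟩) = ⟨x, hxW⟩ := by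
      change (hU.isoSpec.hom ≫ hU.fromSpec) _ = _
      rw [hU.isoSpec_hom_fromSpec]
      rfl
    exact congrArg W.ι this
  · exact DMod.FiniteRing.isDualizing_right _ (RingHom.Finite.of_surjective _ hσ) adjσ
      (DMod.Gorenstein.isDualizing_shift (DMod.ShriekVia.isDualizing_L_mvPolynomial n hω) _)

end Groth.Agent.Lib.RightAdjCoh.Chart
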