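import Groth.Agent.Lib.RightAdjCoh.Shriek
import Groth.Agent.S1055
import Groth.Agent.Lib.DerivedOX.QCohLocal
import Groth.Agent.Lib.DerivedOX.PullComp
import Mathlib.AlgebraicGeometry.Fiber

/-!
# Affine charts of a fibre and derived pullback to them
-/

set_option autoImplicit false
set_option linter.style.haveILetI false
set_option backward.isDefEq.respectTransparency false

universe u

open CategoryTheory Limits AlgebraicGeometry TensorProduct

attribute [local instance] HasDerivedCategory.standard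

namespace Groth.Agent.Lib.RightAdjCoh.FibreChart

open Groth.Agent.Lib

variable {X Y : Scheme.{u}}

/-- Derived pullback read on charts, without flatness. -/
theorem nonempty_Lpull_chart [∀ (R : CommRingCat.{u}), PreservesFiniteLimits (tilde.functor R)]
    (h : X ⟶ Y) [DCoh.HasLpull h] {B C : Type u} [CommRing B] [CommRing C] [Algebra B C]
    [DRing.HasLBaseChange (algebraMap B C)]
    (j : Spec (CommRingCat.of B) ⟶ Y) [IsOpenImmersion j] (k : Spec (CommRingCat.of C) ⟶ X)
    [IsOpenImmersion k] (hc : k ≫ h = Spec.map (CommRingCat.ofHom (algebraMap B C)) ≫ j)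
    {K : DCoh.D Y} {ω : Dual.D B} (e : (DCoh.restrictD j).obj K ≅ (DCoh.tildeD (CommRingCat.of B)).obj ω) :
    Nonempty ((DCoh.restrictD k).obj ((DCoh.Lpull h).obj K) ≅
      (DCoh.tildeD (CommRingCat.of C)).obj ((DRing.LBaseChange (algebraMap B C)).obj ω)) := by
  haveI := DerivedOX.LeftExists.hasLpull k
  haveI := DerivedOX.LeftExists.hasLpull j
  haveI := DerivedOX.LeftExists.hasLpull (Spec.map (CommRingCat.ofHom (algebraMap B C)))
  haveI := DerivedOX.LeftExists.hasLpull (k ≫ h)
  haveI := DerivedOX.LeftExists.hasLpull (Spec.map (CommRingCat.ofHom (algebraMap B C)) ≫ j)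
  have congrIso : ∀ {a b : Spec (CommRingCat.of C) ⟶ Y} [DCoh.HasLpull a] [DCoh.HasLpull b],
      a = b → Nonempty (DCoh.Lpull a ≅ DCoh.Lpull b) := fun h => by
    subst h; exact ⟨Iso.refl _⟩
  obtain ⟨ec⟩ := congrIso (a := k ≫ h) (b := Spec.map (CommRingCat.ofHom (algebraMap B C)) ≫ j) hc
  obtain ⟨ek⟩ := DerivedOX.QCohLocal.nonempty_restrictD_iso k ((DCoh.Lpull h).obj K)
  obtain ⟨ei⟩ := DerivedOX.QCohLocal.nonempty_restrictD_iso j K
  obtain ⟨et⟩ := Groth.Agent.S1055.result (algebraMap B C)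
  exact ⟨ek ≪≫ (DerivedOX.PullComp.lpullCompIso k h).app K ≪≫ ec.app K ≪≫
    ((DerivedOX.PullComp.lpullCompIso (Spec.map (CommRingCat.ofHom (algebraMap B C))) j).app K).symm ≪≫
    (DCoh.Lpull (Spec.map (CommRingCat.ofHom (algebraMap B C)))).mapIso (ei.symm ≪≫ e) ≪≫ (et.app ω).symm⟩

/-- The chart of a fibre over a chart of the morphism. -/
theorem exists_fibre_chart (f : X ⟶ Y) {A B : Type u} [CommRing A] [CommRing B] [Algebra A B]
    (jA : Spec (CommRingCat.of A) ⟶ Y) [IsOpenImmersion jA]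
    (j : Spec (CommRingCat.of B) ⟶ X) [IsOpenImmersion j]
    (hc : j ≫ f = Spec.map (CommRingCat.ofHom (algebraMap A B)) ≫ jA) (y : Y) (hy : y ∈ Set.range jA) :
    ∃ (κ : Type u) (_ : Field κ) (_ : Algebra A κ) (k : Spec (CommRingCat.of (κ ⊗[A] B)) ⟶ f.fiber y)
      (_ : IsOpenImmersion k),
      k ≫ f.fiberι y = Spec.map (CommRingCat.ofHom
        (Algebra.TensorProduct.includeRight : B →ₐ[A] κ ⊗[A] B).toRingHom) ≫ j ∧
      ∀ z : f.fiber y, f.fiberι y z ∈ Set.range j → z ∈ Set.range k := by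
  let κ : Type u := Y.residueField y
  have hr : Set.range (Y.fromSpecResidueField y) ⊆ Set.range jA := by
    rw [Scheme.range_fromSpecResidueField]
    exact Set.singleton_subset_iff.2 hy
  obtain ⟨φ, hφ⟩ := Spec.map_surjective (IsOpenImmersion.lift jA (Y.fromSpecResidueField y) hr)
  letI : Algebra A κ := φ.hom.toAlgebra
  have e₂ : Spec.map (CommRingCat.ofHom (algebraMap A κ)) ≫ jA =
      (𝟙 _ : Spec (CommRingCat.of κ) ⟶ _) ≫ Y.fromSpecResidueField y := by
    rw [Category.id_comp, show CommRingCat.ofHom (algebraMap A κ) = φ from rfl, hφ,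
      IsOpenImmersion.lift_fac]
  let m := pullback.map (Spec.map (CommRingCat.ofHom (algebraMap A B))) (Spec.map (CommRingCat.ofHom (algebraMap A κ))) f (Y.fromSpecResidueField y)
    j (𝟙 _) jA hc.symm e₂
  haveI : IsOpenImmersion m := Scheme.pullback_map_isOpenImmersion _ _ _ _ _ _ _ _ _
  let k : Spec (CommRingCat.of (κ ⊗[A] B)) ⟶ f.fiber y :=
    (pullbackSpecIso A κ B).inv ≫ (pullbackSymmetry _ _).hom ≫ m
  haveI : IsOpenImmersion k := inferInstanceAs (IsOpenImmersion (_ ≫ _ ≫ m))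
  refine ⟨κ, inferInstance, inferInstance, k, inferInstance, ?_, fun z hz => ?_⟩
  · show ((pullbackSpecIso A κ B).inv ≫ (pullbackSymmetry _ _).hom ≫ m) ≫ pullback.fst _ _ = _
    simp only [Category.assoc, m, pullback.map, pullback.lift_fst, pullbackSymmetry_hom_comp_fst_assoc]
    rw [pullbackSpecIso_inv_snd_assoc]
    rfl
  · obtain ⟨w, hw⟩ : z ∈ Set.range m := by
      rw [Scheme.Pullback.range_map]
      exact ⟨hz, ⟨_, rfl⟩⟩
    refine ⟨((pullbackSymmetry _ _).inv ≫ (pullbackSpecIso A κ B).hom) w, ?_⟩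
    show k _ = z
    rw [← hw, ← Scheme.Hom.comp_apply]
    have he : ((pullbackSymmetry _ _).inv ≫ (pullbackSpecIso A κ B).hom) ≫ k = m := by
      simp only [k, Category.assoc, Iso.hom_inv_id_assoc, Iso.inv_hom_id_assoc]
    exact congrArg (fun t => (Scheme.Hom.toLRSHom t).base w) he

end Groth.Agent.Lib.RightAdjCoh.FibreChart
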