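import Groth.Agent.Lib.DMod.ShriekAmplitude
import Groth.Agent.Lib.Unram.EtaleOverAffineSpace
import Groth.Agent.Lib.Cyc.LocalDim

/-!
# The degrees of the dualizing complex of a finite type algebra over a field
-/

set_option linter.style.haveILetI false
set_option linter.unusedSectionVars false

universe u

open CategoryTheory Limits TopologicalSpace
open Groth.Agent.Lib.DR
open Groth.Agent.Lib.DMod Groth.Agent.Lib.DMod.Basic

attribute [local instance] HasDerivedCategory.standard

namespace Groth.Agent.Lib.RightAdjCoh.FieldBounds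

open Groth.Agent.Lib

variable {k B : Type u} [Field k] [CommRing B] [Algebra k B] {n : ℕ}
  {ψ : MvPolynomial (Fin n) k →ₐ[k] B}
  [DRing.HasLBaseChange (algebraMap k (MvPolynomial (Fin n) k))]
  {Rψ : Dual.D (MvPolynomial (Fin n) k) ⥤ Dual.D B}

/-- `H^i` lives only at primes of dimension at most `-i`. -/
theorem dimQ_le_neg (hψ : Function.Surjective ψ) (adj : DRing.restrictD ψ.toRingHom ⊣ Rψ)
    (q : PrimeSpectrum B) (i : ℤ)
    (h : Nontrivial (LocalizedModule q.asIdeal.primeCompl
      (Dual.HD B (Dual2.shriekVia n Rψ (Dual.inD k k)) i))) :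
    (Dim.Basic.dimQ k q.asIdeal : ℤ) ≤ -i := by
  letI := ψ.toRingHom.toAlgebra
  haveI : IsScalarTower k (MvPolynomial (Fin n) k) B :=
    IsScalarTower.of_algebraMap_eq fun r => (ψ.commutes r).symm
  have hsurj : Function.Surjective (algebraMap (MvPolynomial (Fin n) k) B) := hψ
  haveI : Algebra.FiniteType k B := Algebra.FiniteType.of_surjective ψ hψ
  by_contra hlt
  let P := MvPolynomial (Fin n) k
  let Q : Ideal P := q.asIdeal.comap (algebraMap P B)
  let e : (P ⧸ Q) →+* B ⧸ q.asIdeal := Ideal.quotientMap q.asIdeal (algebraMap P B) le_rfl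
  have he : Function.Bijective e := ⟨Ideal.quotientMap_injective, Ideal.quotientMap_surjective hsurj⟩
  have hQ : Dim.Basic.dimQ k Q = Dim.Basic.dimQ k q.asIdeal := by
    have h1 := (ringKrullDim_eq_of_ringEquiv (RingEquiv.ofBijective e he))
    rw [Dim.Basic.ringKrullDim_quotient_prime k Q, Dim.Basic.ringKrullDim_quotient_prime k q.asIdeal] at h1
    exact_mod_cast h1
  have hht := Unram.EtaleOverAffineSpace.height_add_dimQ k n Q
  obtain ⟨D, hD⟩ := ENat.ne_top_iff_exists.1 (show Q.height ≠ ⊤ from fun hc => by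
    rw [hc, top_add] at hht
    exact ENat.top_ne_natCast _ hht)
  rw [← hD] at hht
  have hsum : D + Dim.Basic.dimQ k q.asIdeal = n := by
    rw [← hQ]
    exact_mod_cast hht
  obtain ⟨j, hj⟩ := Int.eq_ofNat_of_zero_le (show 0 ≤ (n : ℤ) + i by omega)
  have hdim : ringKrullDim (Localization.AtPrime Q) = (D : WithBot ℕ∞) := by
    rw [IsLocalization.AtPrime.ringKrullDim_eq_height Q, ← hD]
    rfl
  have hpd := H22.GlobalDim.hasProjectiveDimensionLT_regular (R := Localization.AtPrime Q) D hdim
    (Localization.AtPrime Q ⧸ LocalExtCI.locKer (P := P) B q.asIdeal)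
  have : Subsingleton (LocalExtCI.LExt (P := P) B q.asIdeal j) :=
    HasProjectiveDimensionLT.subsingleton _ (D + 1) j (by omega) _
  obtain ⟨φ, hφ⟩ := LocalExtCI.exists_localizing (P := P) hsurj q.asIdeal j
  obtain ⟨η, hη⟩ := ShriekBounds.exists_shriek_equiv adj i j hj
  refine not_subsingleton_iff_nontrivial.2 h (LocalizedModule.subsingleton_iff.2 fun x => ?_)
  obtain ⟨⟨s, hs⟩, hsx⟩ := hφ.eq_zero (η x) (Subsingleton.elim _ _)
  exact ⟨ψ s, hs, η.injective (by rw [hη, map_zero]; exact hsx)⟩

open AlgebraicGeometry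

/-- Dimension of a closed subset. -/
theorem topologicalKrullDim_closed_le {X : Scheme.{u}} (f : X ⟶ Spec (CommRingCat.of k))
    [LocallyOfFiniteType f] {S : Set X} (hS : IsClosed S) (m : ℕ)
    (h : ∀ x ∈ S, Cyc.FieldDim.fdelta f x ≤ m) : topologicalKrullDim S ≤ (m : WithBot ℕ∞) := by
  refine iSup_le fun l => ?_
  haveI : QuasiSober S := hS.isClosedEmbedding_subtypeVal.quasiSober
  have hδ := Cyc.FieldDim.isDimFun_fdelta f
  have key : ∀ i : ℕ, (hi : i < l.length + 1) →
      (i : ℤ) ≤ Cyc.FieldDim.fdelta f (l ⟨i, hi⟩).2.genericPoint.1 := by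
    intro i
    induction i with
    | zero => intro _; exact Cyc.FieldDim.fdelta_nonneg f _
    | succ i ih =>
      intro hi
      have := ih (by omega)
      have hlt : l ⟨i, by omega⟩ < l ⟨i + 1, hi⟩ := l.step ⟨i, by omega⟩
      have h1 := (l ⟨i, by omega⟩).2.isGenericPoint_genericPoint (l ⟨i, by omega⟩).3
      have h2 := (l ⟨i + 1, hi⟩).2.isGenericPoint_genericPoint (l ⟨i + 1, hi⟩).3
      have := Cyc.DimFun.lt_of_specializes hδ
        ((h2.specializes (hlt.le h1.mem)).map continuous_subtype_val) (fun he => by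
          apply hlt.ne
          apply SetLike.coe_injective
          rw [Subtype.ext he] at h2
          exact h1.def.symm.trans h2.def)
      push_cast
      omega
  have h1 := key l.length (Nat.lt_succ_self _)
  have h2 := h _ (l ⟨l.length, Nat.lt_succ_self _⟩).2.genericPoint.2
  exact_mod_cast (show l.length ≤ m by omega)

end Groth.Agent.Lib.RightAdjCoh.FieldBounds
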