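import Groth.Agent.Lib.RightAdjCoh.FieldBounds
import Groth.Agent.Lib.RightAdjCoh.CMFib
import Groth.Agent.Lib.DualSch.StalkLocal
import Groth.Agent.Lib.DMod.SkCriterion

/-!
# Closed points of schemes over a field and the depth of a dualizing complex
-/

set_option autoImplicit false
set_option linter.style.haveILetI false

universe u

open CategoryTheory Limits AlgebraicGeometry IsLocalRing

attribute [local instance] HasDerivedCategory.standard

namespace Groth.Agent.Lib.RightAdjCoh.FieldPoint

open Groth.Agent.Lib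

/-- At a closed point the local ring has the dimension of the fibre. -/
theorem ringKrullDim_stalk_closed {k : Type u} [Field k] {X : Scheme.{u}} (f : X ⟶ Spec (CommRingCat.of k))
    [LocallyOfFiniteType f] (x : X) (hx : IsClosed ({x} : Set X)) :
    ringKrullDim (X.presheaf.stalk x) = (Groth.Agent.H46.DimData.fe f x : WithBot ℕ∞) := by
  let p : PrimeSpectrum k := f x
  let e₁ := (Spec.stalkIso (CommRingCat.of k) p).commRingCatIsoToRingEquiv
  have hF : IsField ((Spec (CommRingCat.of k)).presheaf.stalk (f x)) := by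
    have h2 : IsField (Localization.AtPrime p.asIdeal) :=
      MulEquiv.isField (Field.toIsField k) (IsLocalization.atUnits k p.asIdeal.primeCompl
        (fun z hz => isUnit_iff_ne_zero.2 fun h0 => hz (by rw [h0]; exact zero_mem _))).symm.toMulEquiv
    exact MulEquiv.isField h2 e₁.toMulEquiv
  have h0 : (maximalIdeal ((Spec (CommRingCat.of k)).presheaf.stalk (f x))).map (f.stalkMap x).hom = ⊥ := by
    rw [(IsLocalRing.isField_iff_maximalIdeal_eq.1 hF), Ideal.map_bot]
  rw [← ringKrullDim_eq_of_ringEquiv ((Ideal.quotEquivOfEq h0).trans (RingEquiv.quotientBot _)),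
    Groth.Agent.H54.CMAffine.ringKrullDim_quotient f x]
  have ht : Groth.Agent.H46.FibreTrdeg.trd f x = 0 := by
    have := Cyc.FieldDim.fdelta_of_isClosed f x hx
    simp only [Cyc.FieldDim.fdelta, Nat.cast_eq_zero] at this
    exact this
  rw [← Groth.Agent.H46.DimData.fd_add_trd f x, ht, add_zero]

/-- Top degree and depth for a dualizing complex of a local ring. -/
theorem top_iff_depth {R : Type u} [CommRing R] [IsLocalRing R] [IsNoetherianRing R] {τ : Dual.D R}
    (hτ : Dual.IsDualizing R τ) (e : ℕ) (he : ringKrullDim R = (e : WithBot ℕ∞))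
    (hlow : Nontrivial (Dual.HD R τ (-(e : ℤ))))
    (hb : ∀ i, Nontrivial (Dual.HD R τ i) → -(e : ℤ) ≤ i ∧ i ≤ 0) (i : ℤ) :
    (∃ j : ℤ, i ≤ j ∧ j ≤ 0 ∧ Nontrivial (Dual.HD R τ j)) ↔
      (LocCoh.depth R R : ℕ∞) ≤ ((-i).toNat : ℕ∞) ∧ i ≤ 0 := by
  let p := IsLocalRing.closedPoint R
  have hmem : ∀ (M : Type u) [AddCommGroup M] [Module R M] [Module.Finite R M],
      p ∈ Module.support R M ↔ Nontrivial M := fun M _ _ _ => by
    refine ⟨fun h => ?_, fun h => IsLocalRing.closedPoint_mem_support R M⟩
    by_contra hn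
    haveI := not_nontrivial_iff_subsingleton.1 hn
    rw [Module.support_eq_empty] at h
    exact h
  obtain ⟨n, d, hdep, hdim, hnd, htop, hbot, hrange⟩ :=
    DMod.SkCriterion.exists_depth_dim hτ p R ((hmem R).2 inferInstance)
  have heq : ∀ j, p ∈ Module.support R (Dual.inD R R ⟶ τ⟦j⟧) ↔ Nontrivial (Dual.HD R τ j) := fun j => by
    haveI := hτ.finite_cohomology j
    rw [LinearEquiv.support_eq (DMod.Basic.homUnitShiftEquiv τ j)]
    exact hmem _
  simp only [heq] at htop hbot hrange
  let ε : R ≃+* Localization.AtPrime p.asIdeal :=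
    (IsLocalization.atUnits R p.asIdeal.primeCompl
      (fun z hz => of_not_not fun hu => hz hu)).toRingEquiv
  haveI : IsLocalRing (Localization.AtPrime p.asIdeal) := inferInstance
  have hd : d = e := by
    have h1 : Module.supportDim (Localization.AtPrime p.asIdeal) (LocalizedModule p.asIdeal.primeCompl R) =
        (e : WithBot ℕ∞) := by
      change Module.supportDim (Localization.AtPrime p.asIdeal) (Localization.AtPrime p.asIdeal) = _
      rw [Module.supportDim_self_eq_ringKrullDim, ← ringKrullDim_eq_of_ringEquiv ε, he]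
    exact_mod_cast hdim.symm.trans h1
  have hn : LocCoh.depth R R = (n : ℕ∞) := by
    refine Eq.trans ?_ hdep
    change _ = LocCoh.depth (Localization.AtPrime p.asIdeal) (Localization.AtPrime p.asIdeal)
    simp only [LocCoh.depth]
    rw [Excellent.Transport.idealDepth_eq_of_ringEquiv ε]
    congr 1
    exact IsLocalRing.map_ringEquiv_maximalIdeal ε
  have hdeg : DMod.Degree.deg hτ p = 0 := by
    have h1 := (hrange _ hlow).1
    have h2 := (hb _ hbot).1
    omega
  constructor
  · rintro ⟨j, hij, hj0, hj⟩
    have h1 := (hrange j hj).2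
    refine ⟨?_, hij.trans hj0⟩
    rw [hn]
    exact_mod_cast (show n ≤ (-i).toNat by omega)
  · rintro ⟨h1, h2⟩
    rw [hn] at h1
    have h3 : n ≤ (-i).toNat := by exact_mod_cast h1
    exact ⟨-(n : ℤ), by omega, by omega, by simpa [hdeg] using htop⟩

end Groth.Agent.Lib.RightAdjCoh.FieldPoint
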