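import Groth.Agent.Lib.RightAdjCoh.Shriek
import Groth.Agent.Lib.DMod.ShriekAmplitude
import Groth.Agent.Lib.DR.ExactPush
import Groth.Agent.Lib.RG57.FlatPtsChart
import Groth.Agent.Lib.Flat55.FlatOverAt
import Groth.Agent.Lib.Disc.Fibre

/-!
# Flatness of `H^0` of a complex of tor amplitude `[0,0]`
-/

set_option autoImplicit false
set_option linter.style.haveILetI false
set_option backward.isDefEq.respectTransparency false

universe u

open CategoryTheory Limits AlgebraicGeometry HomologicalComplex

attribute [local instance] HasDerivedCategory.standard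

namespace Groth.Agent.Lib.RightAdjCoh.FlatDegZero

open Groth.Agent.Lib

variable {R A : Type u} [CommRing R] [CommRing A] [Algebra R A]

/-- Cohomology commutes with restriction of scalars. -/
theorem nonempty_homology_res (M : Dual.D A) (i : ℤ) :
    Nonempty ((DerivedCategory.homologyFunctor (ModuleCat.{u} R) i).obj
        ((DRing.restrictD (algebraMap R A)).obj M) ≅
      (ModuleCat.restrictScalars.{u} (algebraMap R A)).obj
        ((DerivedCategory.homologyFunctor (ModuleCat.{u} A) i).obj M)) := by
  let G := ModuleCat.restrictScalars.{u} (algebraMap R A)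
  let K : DRing.Cx A := DerivedCategory.Q.objPreimage M
  let e := DerivedCategory.Q.objObjPreimageIso M
  exact ⟨(DerivedCategory.homologyFunctor _ i).mapIso ((DRing.restrictD (algebraMap R A)).mapIso e.symm ≪≫
      DR.ExactPush.mapQ G K) ≪≫
    (DerivedCategory.homologyFunctorFactors _ i).app _ ≪≫ (K.sc i).mapHomologyIso G ≪≫
    G.mapIso (((DerivedCategory.homologyFunctorFactors _ i).app K).symm ≪≫
      (DerivedCategory.homologyFunctor _ i).mapIso e)⟩

theorem flat_HD_zero (M : Dual.D A) [Module R (Dual.HD A M 0)] [IsScalarTower R A (Dual.HD A M 0)]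
    (h : DRing.HasTorAmplitudeIn R 0 0 ((DRing.restrictD (algebraMap R A)).obj M)) :
    Module.Flat R (Dual.HD A M 0) := by
  obtain ⟨E, hE, hfl, ⟨e⟩⟩ := h
  obtain ⟨h₁⟩ := nonempty_homology_res (R := R) M 0
  have d0 : E.d 0 1 = 0 := (hE 1 (Or.inr (by omega))).eq_of_tgt _ _
  have d1 : E.d (-1) 0 = 0 := (hE (-1) (Or.inl (by omega))).eq_of_src _ _
  let η : E.X 0 ≅ (ModuleCat.restrictScalars.{u} (algebraMap R A)).obj
      ((DerivedCategory.homologyFunctor (ModuleCat.{u} A) 0).obj M) :=
    (E.iCyclesIso 0 1 (by simp) d0).symm ≪≫ E.isoHomologyπ (-1) 0 (by simp) d1 ≪≫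
      ((DerivedCategory.homologyFunctorFactors _ 0).app E).symm ≪≫
      (DerivedCategory.homologyFunctor _ 0).mapIso e ≪≫ h₁
  let l : (ModuleCat.restrictScalars.{u} (algebraMap R A)).obj
      ((DerivedCategory.homologyFunctor (ModuleCat.{u} A) 0).obj M) ≃ₗ[R] Dual.HD A M 0 :=
    { toFun := fun z => z
      invFun := fun z => z
      left_inv := fun _ => rfl
      right_inv := fun _ => rfl
      map_add' := fun _ _ => rfl
      map_smul' := fun r z => algebraMap_smul A r (show Dual.HD A M 0 from z) }
  haveI := hfl 0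
  exact Module.Flat.of_linearEquiv (η.toLinearEquiv.trans l).symm

/-- Flatness over the base at a point of a chart. -/
theorem isFlatOverAt_chart {X Y : Scheme.{u}} (f : X ⟶ Y) (jA : Spec (CommRingCat.of R) ⟶ Y)
    [IsOpenImmersion jA] (j : Spec (CommRingCat.of A) ⟶ X) [IsOpenImmersion j]
    (hc : j ≫ f = Spec.map (CommRingCat.ofHom (algebraMap R A)) ≫ jA) {G : X.Modules} (N : Type u)
    [AddCommGroup N] [Module A N] [Module R N] [IsScalarTower R A N] [Module.Flat R N]
    (e : G.restrict j ≅ (tilde.functor (CommRingCat.of A)).obj (ModuleCat.of A N))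
    (z : ↥(Spec (CommRingCat.of A))) : FlatMod.IsFlatOverAt f G (j z) := by
  refine (Flat55.FlatOverAt.isFlatOverAt_pullback_iff j f G z (Flat.stalkMap j z)).1 ?_
  rw [hc]
  refine Flat55.FlatOverAt.of_iso _ (e.symm ≪≫ (Scheme.Modules.restrictFunctorIsoPullback j).app G) z ?_
  refine Flat55.FlatOverAt.of_comp _ jA _ z (Flat.stalkMap jA _) ?_
  refine (RG57.FlatPtsChart.isFlatOverAt_tilde_iff R A N z).2 ?_
  haveI : Module.Flat A (Localization (z : PrimeSpectrum A).asIdeal.primeCompl) :=
    IsLocalization.flat _ (z : PrimeSpectrum A).asIdeal.primeCompl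
  haveI : Module.Flat R (TensorProduct A (Localization (z : PrimeSpectrum A).asIdeal.primeCompl) N) :=
    Disc.Fibre.flat_tensor (A := R) (B := A) (Localization (z : PrimeSpectrum A).asIdeal.primeCompl) N
  exact Module.Flat.of_linearEquiv
    ((LocalizedModule.equivTensorProduct (z : PrimeSpectrum A).asIdeal.primeCompl N).restrictScalars R)

end Groth.Agent.Lib.RightAdjCoh.FlatDegZero
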