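import Groth.Agent.Lib.RightAdjCoh.Main

/-!
# `(a K)|_X` does not depend on the compactification: natural restriction along an isomorphism over an open
-/

set_option autoImplicit false
set_option linter.unusedSectionVars false
set_option linter.style.haveILetI false

universe u v w

open CategoryTheory Limits AlgebraicGeometry Pretriangulated

attribute [local instance] HasDerivedCategory.standard

namespace Groth.Agent.Lib.RightAdjCoh

open Groth.Agent.Lib DerivedOX Gen43.Restrict RightAdjTensor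

variable {U X Y Z : Scheme.{u}}

/-- Restriction along an open immersion on `D_QCoh`. -/
noncomputable abbrev resJ (j : U ⟶ X) [IsOpenImmersion j] : DCoh.DQCoh X ⥤ DCoh.DQCoh U :=
  ObjectProperty.lift _ (ObjectProperty.ι _ ⋙ DCoh.restrictD j) fun K =>
    QCohLocal.isQCohD_restrictD j K.property

/-- `Rj_*` on `D_QCoh`. -/
noncomputable abbrev pushJ (j : U ⟶ X) [IsOpenImmersion j] [QuasiCompact j] [DCoh.HasRpush j] :
    DCoh.DQCoh U ⥤ DCoh.DQCoh X :=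
  DCoh.RpushQ j (preservesQCoh j)

/-- `j^* ⊣ Rj_*`. -/
noncomputable def resPushJ (j : U ⟶ X) [IsOpenImmersion j] [QuasiCompact j] [DCoh.HasRpush j] :
    resJ j ⊣ pushJ j :=
  (OpenImm.restrictPushAdj j).restrictFullyFaithful (ObjectProperty.fullyFaithfulι _)
    (ObjectProperty.fullyFaithfulι _) (Iso.refl _) (Iso.refl _)

lemma resPushJ_unit (j : U ⟶ X) [IsOpenImmersion j] [QuasiCompact j] [DCoh.HasRpush j]
    (K : DCoh.DQCoh X) : ((resPushJ j).unit.app K).hom = Gen43.Restrict.unit j K.obj := by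
  simp [resPushJ, Adjunction.restrictFullyFaithful]
  exact (OpenImm.restrictPushAdj j).homEquiv_id _

/-- For an isomorphism `w`, `Rw_*` is restriction along its inverse. -/
noncomputable def pushIso (w : U ⟶ X) [IsIso w] [DCoh.HasRpush w] :
    DCoh.Rpush w ≅ DCoh.restrictD (inv w) :=
  (Functor.rightUnitor _).symm ≪≫
    Functor.isoWhiskerLeft _ ((idIso X).symm ≪≫ (compIso' (inv w) w (IsIso.inv_hom_id w)).symm) ≪≫
    (Functor.associator _ _ _).symm ≪≫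
    Functor.isoWhiskerRight (OpenImm.counitIso w) _ ≪≫ Functor.leftUnitor _

/-- Base change to an open over which `π` is an isomorphism. -/
noncomputable def bcIso (π : X ⟶ Y) [DCoh.HasRpush π] (j : U ⟶ Y) [IsOpenImmersion j] (j' : U ⟶ X)
    [IsOpenImmersion j'] (hf : j' ≫ π = j) (hr : j'.opensRange = π ⁻¹ᵁ j.opensRange) :
    DCoh.Rpush π ⋙ DCoh.restrictD j ≅ DCoh.restrictD j' :=
  let e := j.isoOpensRange
  let e' := j'.isoOpensRange ≪≫ X.isoOfEq hr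
  have he : e'.hom ≫ (π ∣_ j.opensRange) = e.hom := by
    rw [← cancel_mono j.opensRange.ι, Category.assoc, morphismRestrict_ι]
    simp only [e, e', Iso.trans_hom, Category.assoc, Scheme.isoOfEq_hom_ι_assoc,
      Scheme.Hom.isoOpensRange_hom_ι_assoc, Scheme.Hom.isoOpensRange_hom_ι, hf]
  haveI : IsIso (π ∣_ j.opensRange) := by
    rw [show π ∣_ j.opensRange = e'.inv ≫ e.hom by rw [← he, Iso.inv_hom_id_assoc]]
    infer_instance
  haveI := DerivedOX.Exists.hasRpush (π ∣_ j.opensRange)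
  have hj : e.hom ≫ j.opensRange.ι = j := Scheme.Hom.isoOpensRange_hom_ι j
  have hj' : (e.hom ≫ inv (π ∣_ j.opensRange)) ≫ (π ⁻¹ᵁ j.opensRange).ι = j' := by
    rw [← he, Category.assoc e'.hom, IsIso.hom_inv_id, Category.comp_id]
    simp only [e', Iso.trans_hom, Category.assoc, Scheme.isoOfEq_hom_ι, Scheme.Hom.isoOpensRange_hom_ι]
  Functor.isoWhiskerLeft _ (compIso' e.hom j.opensRange.ι hj).symm ≪≫
    (Functor.associator _ _ _).symm ≪≫
    Functor.isoWhiskerRight (RestrictRpush.restrictD_Rpush_iso π j.opensRange) _ ≪≫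
    Functor.isoWhiskerRight (Functor.isoWhiskerLeft _ (pushIso (π ∣_ j.opensRange))) _ ≪≫
    Functor.associator _ _ _ ≪≫
    Functor.isoWhiskerLeft _ (compIso' e.hom (inv (π ∣_ j.opensRange)) rfl) ≪≫
    compIso' (e.hom ≫ inv (π ∣_ j.opensRange)) (π ⁻¹ᵁ j.opensRange).ι hj'

/-- Natural restriction of the right adjoint over an open where `π` is an isomorphism. -/
theorem nonempty_bc_natIso {C : Type w} [Category.{v} C] [IsNoetherian X] [IsNoetherian Y] (π : X ⟶ Y)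
    [IsProper π] [DCoh.HasRpush π] (hπ : DCoh.RpushPreservesQCoh π)
    {b : DCoh.DQCoh Y ⥤ DCoh.DQCoh X} (adj : DCoh.RpushQ π hπ ⊣ b)
    (j : U ⟶ Y) [IsOpenImmersion j] (j' : U ⟶ X) [IsOpenImmersion j'] (hf : j' ≫ π = j)
    (hr : j'.opensRange = π ⁻¹ᵁ j.opensRange)
    (F : C ⥤ DCoh.DQCoh Y) (hF : ∀ A, ∃ c, (F.obj A).obj.IsGE c) :
    Nonempty (F ⋙ b ⋙ ObjectProperty.ι _ ⋙ DCoh.restrictD j' ≅
      F ⋙ ObjectProperty.ι _ ⋙ DCoh.restrictD j) := by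
  haveI := DerivedOX.Exists.hasRpush j
  haveI := DerivedOX.Exists.hasRpush j'
  haveI : QuasiCompact j := inferInstance
  haveI : QuasiCompact j' := inferInstance
  haveI := additive_a π hπ adj
  letI := adj.rightAdjointCommShift ℤ
  haveI := adj.commShift_of_leftAdjoint ℤ
  haveI : b.IsTriangulated := adj.isTriangulated_rightAdjoint
  let φ : DCoh.RpushQ π hπ ⋙ resJ j ≅ resJ j' :=
    NatIso.ofComponents
      (fun G => (ObjectProperty.fullyFaithfulι _).preimageIso ((bcIso π j j' hf hr).app G.obj))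
      fun {G G'} g => ObjectProperty.hom_ext _ ((bcIso π j j' hf hr).hom.naturality g.hom)
  let θ : pushJ j ⋙ b ≅ pushJ j' :=
    ((adj.comp (resPushJ j)).ofNatIsoLeft φ).rightAdjointUniq (resPushJ j')
  let G := ObjectProperty.ι (DCoh.IsQCohD (X := X)) ⋙ DCoh.restrictD j'
  let η : F ⋙ b ⋙ G ⟶ F ⋙ (resJ j ⋙ pushJ j) ⋙ b ⋙ G :=
    Functor.whiskerLeft F (Functor.whiskerRight (resPushJ j).unit (b ⋙ G))
  have hη : ∀ A, IsIso (η.app A) := fun A => by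
    obtain ⟨c, hc⟩ := hF A
    haveI := hc
    let u := (resPushJ j).unit.app (F.obj A)
    obtain ⟨T, q, r, hT⟩ := distinguished_cocone_triangle u
    have hTo := (ObjectProperty.ι (DCoh.IsQCohD (X := Y))).map_distinguished _ hT
    have hu : IsIso ((DCoh.restrictD j).map u.hom) := by
      rw [resPushJ_unit]; exact isIso_restrict_unit j _
    have hTj : IsZero ((DCoh.restrictD j).obj T.obj) :=
      ((Triangle.isZero₃_iff_isIso₁ _ ((DCoh.restrictD j).map_distinguished _ hTo)).2 hu)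
    have hTV : Van j.opensRange T.obj := (isZero_restrictD_iff_van j T.obj).1 hTj
    have hgeR : ((DCoh.Rpush j).obj ((DCoh.restrictD j).obj (F.obj A).obj)).IsGE c := by
      haveI : ((DCoh.restrictD j).obj (F.obj A).obj).IsGE c := (DerivedCategory.isGE_iff _ _).2
        fun i hi => ((Scheme.Modules.restrictFunctor j).map_isZero
          ((DerivedCategory.isGE_iff _ _).1 hc i hi)).of_iso (Perfect.Coherent.homologyIso j _ i)
      exact SchColim29.CohPush.Rpush_isGE j _ c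
    have hTb : T.obj.IsGE (c - 1) := SupportsBdd.isGE₃ _ hTo hc hgeR
    have hv := SupportsBdd.van_a π hπ adj (fun M d hd =>
      RightAdjTensor.preservesColimit_of_isGE π hπ adj _ d fun _ => hd) T ⟨_, hTb⟩ hTV
    rw [← hr] at hv
    have hz := (isZero_restrictD_iff_van j' (b.obj T).obj).2 hv
    exact (Triangle.isZero₃_iff_isIso₁ _ ((DCoh.restrictD j').map_distinguished _
      ((ObjectProperty.ι (DCoh.IsQCohD (X := X))).map_distinguished _ (b.map_distinguished _ hT)))).1 hz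
  haveI : IsIso η := @NatIso.isIso_of_isIso_app _ _ _ _ _ _ η hη
  exact ⟨asIso η ≪≫ Functor.isoWhiskerLeft F
    (Functor.isoWhiskerLeft (resJ j) (Functor.isoWhiskerRight θ G) ≪≫
      Functor.isoWhiskerLeft (resJ j ⋙ ObjectProperty.ι _) (OpenImm.counitIso j') ≪≫
      Functor.rightUnitor _)⟩

lemma range_eq_preimage {I : Scheme.{u}} (t : U ⟶ I) [IsOpenImmersion t] [IsDominant t] (π : I ⟶ Y)
    [IsSeparated π] (j : U ⟶ Y) [IsOpenImmersion j] (h : t ≫ π = j) :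
    t.opensRange = π ⁻¹ᵁ j.opensRange :=
  TopologicalSpace.Opens.ext (eq_preimage t π j.opensRange j.isoOpensRange.hom
    (h.trans (Scheme.Hom.isoOpensRange_hom_ι j).symm))

lemma bdd_comp (f : X ⟶ Y) [IsNoetherian X] [IsNoetherian Y] [DCoh.HasRpush f]
    (hf : DCoh.RpushPreservesQCoh f) {a : DCoh.DQCoh Y ⥤ DCoh.DQCoh X} (adj : DCoh.RpushQ f hf ⊣ a)
    (A : (Dual3.IsBddBelowQ Y).FullSubcategory) : ∃ c, ((Dual3.bddι Y ⋙ a).obj A).obj.IsGE c := by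
  obtain ⟨N, hN⟩ := isGE_a f hf adj
  obtain ⟨c, hc⟩ := A.property
  exact ⟨_, hN A.obj c hc⟩

lemma isNoetherian_of_proper [IsNoetherian Y] (f : X ⟶ Y) [IsProper f] : IsNoetherian X := by
  haveI : IsLocallyNoetherian X := LocallyOfFiniteType.isLocallyNoetherian f
  haveI : CompactSpace X := QuasiCompact.compactSpace_of_compactSpace f
  exact {}

/-- Two compactifications give the same functor on bounded below objects. -/
theorem nonempty_indep [IsNoetherian Y] {X₁ X₂ : Scheme.{u}}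
    (j₁ : U ⟶ X₁) [IsOpenImmersion j₁] (f₁ : X₁ ⟶ Y) [IsProper f₁] [DCoh.HasRpush f₁]
    (h₁ : DCoh.RpushPreservesQCoh f₁) {a₁ : DCoh.DQCoh Y ⥤ DCoh.DQCoh X₁} (adj₁ : DCoh.RpushQ f₁ h₁ ⊣ a₁)
    (j₂ : U ⟶ X₂) [IsOpenImmersion j₂] (f₂ : X₂ ⟶ Y) [IsProper f₂] [DCoh.HasRpush f₂]
    (h₂ : DCoh.RpushPreservesQCoh f₂) {a₂ : DCoh.DQCoh Y ⥤ DCoh.DQCoh X₂} (adj₂ : DCoh.RpushQ f₂ h₂ ⊣ a₂)
    (hw : j₁ ≫ f₁ = j₂ ≫ f₂) :
    Nonempty (Dual3.bddι Y ⋙ a₁ ⋙ ObjectProperty.ι _ ⋙ DCoh.restrictD j₁ ≅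
      Dual3.bddι Y ⋙ a₂ ⋙ ObjectProperty.ι _ ⋙ DCoh.restrictD j₂) := by
  haveI := isNoetherian_of_proper f₁
  haveI := isNoetherian_of_proper f₂
  let m : U ⟶ pullback f₁ f₂ := pullback.lift j₁ j₂ hw
  haveI : IsImmersion (m ≫ pullback.fst f₁ f₂) := by rw [pullback.lift_fst]; infer_instance
  haveI : IsImmersion m := IsImmersion.of_comp m (pullback.fst f₁ f₂)
  haveI : IsProper (pullback.fst f₁ f₂) := MorphismProperty.pullback_fst _ _ (inferInstance : IsProper f₂)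
  haveI : IsProper (pullback.snd f₁ f₂) := MorphismProperty.pullback_snd _ _ (inferInstance : IsProper f₁)
  haveI : IsLocallyNoetherian (pullback f₁ f₂) :=
    LocallyOfFiniteType.isLocallyNoetherian (pullback.fst f₁ f₂)
  haveI : IsNoetherian U :=
    { toIsLocallyNoetherian := isLocallyNoetherian_of_isOpenImmersion j₁
      toCompactSpace := QuasiCompact.compactSpace_of_compactSpace j₁ }
  haveI : QuasiCompact m := inferInstance
  let π₁ : m.image ⟶ X₁ := m.imageι ≫ pullback.fst f₁ f₂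
  let π₂ : m.image ⟶ X₂ := m.imageι ≫ pullback.snd f₁ f₂
  haveI : IsProper π₁ := inferInstance
  haveI : IsProper π₂ := inferInstance
  haveI := isNoetherian_of_proper π₁
  let t := m.toImage
  have ht₁ : t ≫ π₁ = j₁ := by rw [← Category.assoc, Scheme.Hom.toImage_imageι, pullback.lift_fst]
  have ht₂ : t ≫ π₂ = j₂ := by rw [← Category.assoc, Scheme.Hom.toImage_imageι, pullback.lift_snd]
  haveI := DerivedOX.Exists.hasRpush π₁
  haveI := DerivedOX.Exists.hasRpush π₂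
  haveI := DerivedOX.Exists.hasRpush (π₁ ≫ f₁)
  obtain ⟨b₁, ⟨adjb₁⟩⟩ := exists_adj π₁ (preservesQCoh _)
  obtain ⟨b₂, ⟨adjb₂⟩⟩ := exists_adj π₂ (preservesQCoh _)
  obtain ⟨a₃, ⟨adj₃⟩⟩ := exists_adj (π₁ ≫ f₁) (preservesQCoh _)
  obtain ⟨θ₁⟩ := nonempty_comp_iso π₁ f₁ (preservesQCoh _) h₁ _ adjb₁ adj₁ adj₃
  have hfg : π₁ ≫ f₁ = π₂ ≫ f₂ := by simp only [π₁, π₂, Category.assoc, pullback.condition]
  have key : ∀ (h : m.image ⟶ Y), h = π₂ ≫ f₂ → ∀ [DCoh.HasRpush h]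
      (hh : DCoh.RpushPreservesQCoh h) (d : DCoh.DQCoh Y ⥤ DCoh.DQCoh m.image),
      (DCoh.RpushQ h hh ⊣ d) → Nonempty (a₂ ⋙ b₂ ≅ d) := by
    rintro h rfl _ hh d adjd
    exact nonempty_comp_iso π₂ f₂ (preservesQCoh π₂) h₂ hh adjb₂ adj₂ adjd
  obtain ⟨θ₂⟩ := key (π₁ ≫ f₁) hfg _ a₃ adj₃
  obtain ⟨e₁⟩ := nonempty_bc_natIso π₁ _ adjb₁ j₁ t ht₁ (range_eq_preimage t π₁ j₁ ht₁)
    (Dual3.bddι Y ⋙ a₁) (bdd_comp f₁ h₁ adj₁)
  obtain ⟨e₂⟩ := nonempty_bc_natIso π₂ _ adjb₂ j₂ t ht₂ (range_eq_preimage t π₂ j₂ ht₂)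
    (Dual3.bddι Y ⋙ a₂) (bdd_comp f₂ h₂ adj₂)
  let G := ObjectProperty.ι (DCoh.IsQCohD (X := m.image)) ⋙ DCoh.restrictD t
  let A₁ : Dual3.bddι Y ⋙ a₁ ⋙ ObjectProperty.ι _ ⋙ DCoh.restrictD j₁ ≅
      Dual3.bddι Y ⋙ (a₁ ⋙ b₁) ⋙ G := e₁.symm
  let A₂ : Dual3.bddι Y ⋙ (a₂ ⋙ b₂) ⋙ G ≅
      Dual3.bddι Y ⋙ a₂ ⋙ ObjectProperty.ι _ ⋙ DCoh.restrictD j₂ := e₂
  exact ⟨A₁ ≪≫ Functor.isoWhiskerLeft (Dual3.bddι Y)
    (Functor.isoWhiskerRight (θ₁ ≪≫ θ₂.symm) G) ≪≫ A₂⟩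

/-- Compactifications of an open immersion. -/
theorem nonempty_openImmersion [IsNoetherian Y] {X₁ : Scheme.{u}} (f : U ⟶ Y) [IsOpenImmersion f]
    (j : U ⟶ X₁) [IsOpenImmersion j] (f₁ : X₁ ⟶ Y) [IsProper f₁] [DCoh.HasRpush f₁]
    (h₁ : DCoh.RpushPreservesQCoh f₁) {a : DCoh.DQCoh Y ⥤ DCoh.DQCoh X₁} (adj : DCoh.RpushQ f₁ h₁ ⊣ a)
    (hw : j ≫ f₁ = f) :
    Nonempty (Dual3.bddι Y ⋙ a ⋙ ObjectProperty.ι _ ⋙ DCoh.restrictD j ≅
      Dual3.bddι Y ⋙ ObjectProperty.ι _ ⋙ DCoh.restrictD f) := by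
  haveI := isNoetherian_of_proper f₁
  haveI : QuasiCompact j := inferInstance
  haveI : IsImmersion j := inferInstance
  let π : j.image ⟶ X₁ := j.imageι
  haveI : IsProper π := inferInstance
  haveI := isNoetherian_of_proper π
  let t := j.toImage
  have ht : t ≫ π = j := Scheme.Hom.toImage_imageι j
  haveI := DerivedOX.Exists.hasRpush π
  haveI := DerivedOX.Exists.hasRpush (π ≫ f₁)
  obtain ⟨b, ⟨adjb⟩⟩ := exists_adj π (preservesQCoh _)
  obtain ⟨a₃, ⟨adj₃⟩⟩ := exists_adj (π ≫ f₁) (preservesQCoh _)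
  obtain ⟨θ⟩ := nonempty_comp_iso π f₁ (preservesQCoh _) h₁ _ adjb adj adj₃
  have ht' : t ≫ π ≫ f₁ = f := by rw [← Category.assoc, ht, hw]
  obtain ⟨e₁⟩ := nonempty_bc_natIso π _ adjb j t ht (range_eq_preimage t π j ht)
    (Dual3.bddι Y ⋙ a) (bdd_comp f₁ h₁ adj)
  obtain ⟨e₂⟩ := nonempty_bc_natIso (π ≫ f₁) _ adj₃ f t ht' (range_eq_preimage t (π ≫ f₁) f ht')
    (Dual3.bddι Y) (fun A => A.property)
  let G := ObjectProperty.ι (DCoh.IsQCohD (X := j.image)) ⋙ DCoh.restrictD t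
  let A₁ : Dual3.bddι Y ⋙ a ⋙ ObjectProperty.ι _ ⋙ DCoh.restrictD j ≅
      Dual3.bddι Y ⋙ (a ⋙ b) ⋙ G := e₁.symm
  exact ⟨A₁ ≪≫ Functor.isoWhiskerLeft (Dual3.bddι Y) (Functor.isoWhiskerRight θ G) ≪≫ e₂⟩

end Groth.Agent.Lib.RightAdjCoh
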