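import Groth.Agent.Lib.RightAdjCoh.Shriek
import Groth.Agent.Lib.RightAdjCoh.Dualizing
import Groth.Agent.Lib.RightAdjCoh.FieldPoint
import Groth.Agent.Lib.DualSch.Affine
import Groth.Agent.Lib.DMod.LocalCase
import Groth.Agent.Lib.DMod.ShriekVia
import Groth.Agent.Lib.Modules.Support
import Groth.Agent.S1789

/-!
# Proper schemes over a local ring with a normalized dualizing complex
-/

set_option autoImplicit false
set_option linter.style.haveILetI false
set_option maxHeartbeats 1000000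

universe u

open CategoryTheory CategoryTheory.Limits AlgebraicGeometry

attribute [local instance] HasDerivedCategory.standard

namespace Groth.Agent.Lib.RightAdjCoh.LocalBase

open Groth.Agent.Lib Groth.Agent.Lib.DMod DerivedOX Gen43.Restrict RightAdjTensor

section Ring

variable {R B : Type u} [CommRing R] [CommRing B] [IsNoetherianRing R] [IsNoetherianRing B] [Algebra R B]
  {n : ℕ} {ψ : MvPolynomial (Fin n) R →ₐ[R] B} (hψ : Function.Surjective ψ)
  [DRing.HasLBaseChange (algebraMap R (MvPolynomial (Fin n) R))]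
  {Rψ : Dual.D (MvPolynomial (Fin n) R) ⥤ Dual.D B} (adj : DRing.restrictD ψ.toRingHom ⊣ Rψ)
  {ω : Dual.D R} (hω : Dual.IsDualizing R ω)

include hψ adj hω in
theorem isDualizing_shriekVia : Dual.IsDualizing B (Dual2.shriekVia n Rψ ω) :=
  Gorenstein.isDualizing_shift (FiniteRing.isDualizing_right ψ.toRingHom
    (RingHom.Finite.of_surjective _ hψ) adj
    (LBC.isDualizing_of_iso ((FlatHom.isoLBaseChange R (MvPolynomial (Fin n) R)).app ω).symm
      (ShriekVia.isDualizing_L_mvPolynomial n hω))) _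

include hψ adj hω in
/-- Closed points over the closed point have degree zero. -/
theorem subsingleton_quotient [IsLocalRing R] (hn : Dual.IsNormalized R ω) (m : Ideal B) [m.IsMaximal]
    (hm : m.comap (algebraMap R B) = IsLocalRing.maximalIdeal R) (i : ℤ) (hi : i ≠ 0) :
    Subsingleton (Dual.inD B (B ⧸ m) ⟶ (Dual2.shriekVia n Rψ ω)⟦i⟧) := by
  let P := MvPolynomial (Fin n) R
  let M : Ideal P := m.comap ψ.toRingHom
  have : M.IsMaximal := Ideal.comap_isMaximal_of_surjective ψ.toRingHom hψ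
  have hM : M.comap (algebraMap R P) = IsLocalRing.maximalIdeal R := by
    rw [Ideal.comap_comap]
    refine Eq.trans ?_ hm
    congr 1
    exact ψ.comp_algebraMap
  have h0 := ShriekVia.subsingleton_maximal hω hn M hM (↑n + i) (by lia)
  let f : P →ₗ[P] ((ModuleCat.restrictScalars.{u} ψ.toRingHom).obj (ModuleCat.of B (B ⧸ m))) :=
    LinearMap.toSpanSingleton P _ (Ideal.Quotient.mk m 1)
  have hf : Function.Surjective f := fun x => by
    obtain ⟨a, rfl⟩ := Ideal.Quotient.mk_surjective (I := m) x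
    obtain ⟨z, rfl⟩ := hψ a
    refine ⟨z, ?_⟩
    show Ideal.Quotient.mk m (ψ z * 1) = _
    rw [mul_one]
  have hker : LinearMap.ker f = M := by
    ext z
    show Ideal.Quotient.mk m (ψ z * 1) = 0 ↔ _
    rw [mul_one, Ideal.Quotient.eq_zero_iff_mem]
    exact Iff.rfl
  let o : ((ModuleCat.restrictScalars.{u} ψ.toRingHom).obj (ModuleCat.of B (B ⧸ m))) ≅
      ModuleCat.of P (P ⧸ M) :=
    ((Submodule.quotEquivOfEq _ _ hker.symm).trans
      (LinearMap.quotKerEquivOfSurjective f hf)).symm.toModuleIso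
  let Y := (DRing.LBaseChange (algebraMap R P)).obj ω
  have h1 : Subsingleton (Dual.inD B (B ⧸ m) ⟶ (Rψ.obj Y)⟦↑n + i⟧) :=
    ((FiniteRing.adjEquiv (FiniteRing.isRep_counit adj Y) _ (↑n + i)).trans
      (Linear.homCongr P (FiniteRing.resSingle (ModuleCat.of B (B ⧸ m)) ≪≫
        (DerivedCategory.singleFunctor (ModuleCat.{u} P) 0).mapIso o)
        (((shiftFunctor (Dual.D P) (↑n + i)).mapIso
          ((FlatHom.isoLBaseChange R P).app ω)))).toAddEquiv).toEquiv.subsingleton
  exact (Iso.homCongr (Iso.refl _) ((shiftFunctorAdd' (Dual.D B) (n : ℤ) i (↑n + i) rfl).app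
    (Rψ.obj Y)).symm).subsingleton

include hψ adj hω in
theorem deg_eq_zero [IsLocalRing R] (hn : Dual.IsNormalized R ω)
    (hd : Dual.IsDualizing B (Dual2.shriekVia n Rψ ω)) (P : PrimeSpectrum B) [P.asIdeal.IsMaximal]
    (hP : P.asIdeal.comap (algebraMap R B) = IsLocalRing.maximalIdeal R) : Degree.deg hd P = 0 := by
  by_contra hne
  haveI := subsingleton_quotient hψ adj hω hn P.asIdeal hP _ hne
  exact absurd (Degree.mem_support_deg hd P) (by simp [Module.support_eq_empty])

end Ring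

section Scheme

variable [∀ (R : CommRingCat.{u}), PreservesFiniteLimits (tilde.functor R)]
  {A : Type u} [CommRing A] [IsLocalRing A] [IsNoetherianRing A] {ω : Dual.D A}
  (hω : Dual.IsDualizing A ω) (hn : Dual.IsNormalized A ω) {X : Scheme.{u}}
  (f : X ⟶ Spec (CommRingCat.of A)) [IsProper f] [DCoh.HasRpush f] (hf : DCoh.RpushPreservesQCoh f)
  {a : DCoh.DQCoh (Spec (CommRingCat.of A)) ⥤ DCoh.DQCoh X} (adj : DCoh.RpushQ f hf ⊣ a)
  (W : DCoh.DQCoh (Spec (CommRingCat.of A))) (eW : W.obj ≅ (DCoh.tildeD (CommRingCat.of A)).obj ω)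

include hω hn adj eW in
/-- Around a closed point: a dualizing complex of degree zero at that point. -/
theorem exists_closed_chart (x : X) (hx : IsClosed ({x} : Set X)) :
    ∃ (B : Type u) (_ : CommRing B) (_ : IsNoetherianRing B) (j : Spec (CommRingCat.of B) ⟶ X)
      (_ : IsOpenImmersion j) (ωB : Dual.D B) (hd : Dual.IsDualizing B ωB) (P : PrimeSpectrum B),
      j P = x ∧ Degree.deg hd P = 0 ∧
        ∀ (i : ℤ) (q : PrimeSpectrum B), Nontrivial ((DCoh.HD (a.obj W).obj i).presheaf.stalk (j q)) ↔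
          q ∈ Module.support B (Dual.inD B B ⟶ ωB⟦i⟧) := by
  haveI : ∀ (U : Scheme.{u}) (j : U ⟶ X) [IsOpenImmersion j],
      PreservesFiniteLimits (Scheme.Modules.restrictFunctor j) := fun U j _ => inferInstance
  haveI : IsNoetherian X := Groth.Agent.Lib.RightAdjCoh.isNoetherian_of_proper f
  obtain ⟨U, hU, hxU, -⟩ := exists_isAffineOpen_mem_and_subset (X := X) (x := x) (U := ⊤) trivial
  let φ : CommRingCat.of A ⟶ Γ(X, U) := (Scheme.ΓSpecIso (CommRingCat.of A)).inv ≫ f.appLE ⊤ U (by simp)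
  letI : Algebra A Γ(X, U) := φ.hom.toAlgebra
  haveI : Algebra.FiniteType A Γ(X, U) :=
    RingHom.FiniteType.comp (LocallyOfFiniteType.finiteType_appLE f (isAffineOpen_top _) hU (by simp))
      (RingHom.FiniteType.of_surjective _
        ((Scheme.ΓSpecIso (CommRingCat.of A)).symm.commRingCatIsoToRingEquiv.surjective))
  haveI : IsNoetherianRing Γ(X, U) := Algebra.FiniteType.isNoetherianRing A Γ(X, U)
  obtain ⟨m, ψ, hψ⟩ := Algebra.FiniteType.iff_quotient_mvPolynomial''.1
    (inferInstance : Algebra.FiniteType A Γ(X, U))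
  obtain ⟨Rψ, ⟨adjψ⟩⟩ := Groth.Agent.Lib.RightAdjCoh.Chart.exists_adjR (CommRingCat.ofHom ψ.toRingHom)
  haveI := Groth.Agent.Lib.DR.BaseChangeU.hasLBaseChange (algebraMap A (MvPolynomial (Fin m) A))
  have hc : hU.fromSpec ≫ f = Spec.map (CommRingCat.ofHom (algebraMap A Γ(X, U))) ≫ 𝟙 _ := by
    rw [← (isAffineOpen_top (Spec (CommRingCat.of A))).SpecMap_appLE_fromSpec f hU (by simp),
      Category.comp_id, show CommRingCat.ofHom (algebraMap A Γ(X, U)) =
        (Scheme.ΓSpecIso (CommRingCat.of A)).inv ≫ f.appLE ⊤ U (by simp) from rfl, Spec.map_comp,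
      IsAffineOpen.fromSpec_top, Scheme.isoSpec_Spec_inv]
  have hge : ∃ c, W.obj.IsGE c := by
    obtain ⟨c, hc'⟩ := Groth.Agent.Lib.RightAdjCoh.Chart.exists_isGE_tildeD hω
    exact ⟨c, SupportsBdd.isGE_of_iso hc' eW.symm⟩
  obtain ⟨e⟩ := Groth.Agent.Lib.RightAdjCoh.Chart.nonempty_shriek_chart f (𝟙 X) f (Category.id_comp f) hf
    adj (𝟙 _) hU.fromSpec hc ψ hψ adjψ W hge ω ((Groth.Agent.Lib.Gen43.Restrict.idIso _).app W.obj ≪≫ eW)
  let e' : (DCoh.restrictD hU.fromSpec).obj (a.obj W).obj ≅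
      (DCoh.tildeD (CommRingCat.of Γ(X, U))).obj (Dual2.shriekVia m Rψ ω) := (DCoh.restrictD hU.fromSpec).mapIso
    ((Groth.Agent.Lib.Gen43.Restrict.idIso X).symm.app (a.obj W).obj) ≪≫ e
  let P : PrimeSpectrum Γ(X, U) := hU.primeIdealOf ⟨x, hxU⟩
  have hP : hU.fromSpec P = x := hU.fromSpec_primeIdealOf ⟨x, hxU⟩
  have hd := isDualizing_shriekVia hψ adjψ hω
  haveI : P.asIdeal.IsMaximal := by
    rw [← PrimeSpectrum.isClosed_singleton_iff_isMaximal]
    have h1 : ({P} : Set (PrimeSpectrum Γ(X, U))) = hU.fromSpec ⁻¹' {x} := by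
      ext z
      exact ⟨fun h => by rw [Set.mem_singleton_iff.1 h]; exact hP,
        fun h => hU.fromSpec.isOpenEmbedding.injective (h.trans hP.symm)⟩
    rw [h1]
    exact hx.preimage hU.fromSpec.continuous
  have hPA : P.asIdeal.comap (algebraMap A Γ(X, U)) = IsLocalRing.maximalIdeal A := by
    have h1 : IsClosed ({(hU.fromSpec ≫ f) P} : Set (Spec (CommRingCat.of A))) := by
      have := f.isClosedMap _ hx
      rw [Set.image_singleton, ← hP] at this
      exact this
    rw [hc, Category.comp_id] at h1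
    have h2 : IsClosed ({PrimeSpectrum.comap (algebraMap A Γ(X, U)) P} : Set (PrimeSpectrum A)) := h1
    rw [PrimeSpectrum.isClosed_singleton_iff_isMaximal] at h2
    exact IsLocalRing.eq_maximalIdeal h2
  refine ⟨Γ(X, U), inferInstance, inferInstance, hU.fromSpec, inferInstance, _, hd, P, hP,
    deg_eq_zero hψ adjψ hω hn hd P hPA, fun i q => ?_⟩
  rw [Groth.Agent.Lib.DualSch.Affine.nontrivial_stalk_iff hU.fromSpec e' i q,
    LinearEquiv.support_eq (DMod.Basic.homUnitShiftEquiv (Dual2.shriekVia m Rψ ω) i)]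

end Scheme

end Groth.Agent.Lib.RightAdjCoh.LocalBase
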