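import Groth.Agent.Lib.EGA63.DepthTwo
import Groth.Agent.Lib.Abhyankar.Val
import Groth.Agent.Lib.Depth.Basic
import Groth.Agent.Lib.DMod.Bottom
import Groth.Agent.Lib.DualSch.StalkLocal
import Mathlib.LinearAlgebra.FreeModule.PID

/-!
# Torsion-free `(S₂)` modules over normal domains; the lowest module of a dualizing complex
-/

set_option autoImplicit false
set_option linter.style.haveILetI false

universe u

open CategoryTheory

attribute [local instance] HasDerivedCategory.standard

namespace Groth.Agent.Lib.RightAdjCoh.NormalRefl

open Groth.Agent.Lib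

theorem isReflexive_of_torsionFree_S2 {R : Type u} [CommRing R] [IsDomain R] [IsNoetherianRing R]
    [IsIntegrallyClosed R] (M : Type u) [AddCommGroup M] [Module R M] [Module.Finite R M]
    (htf : ∀ y : R, y ≠ 0 → Function.Injective fun m : M => y • m) (hS : LocCoh.HasSk 2 R M) :
    Module.IsReflexive R M := by
  refine (EGA63.DepthTwo.isReflexive_iff R M).2 fun p _ => ?_
  let Rp := Localization.AtPrime p
  let Mp := LocalizedModule p.primeCompl M
  haveI : IsDomain Rp := IsLocalization.isDomain_localization (Ideal.primeCompl_le_nonZeroDivisors p)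
  haveI : Module.Finite Rp Mp :=
    Module.Finite.of_isLocalizedModule p.primeCompl (LocalizedModule.mkLinearMap p.primeCompl M)
  haveI htf' : Module.IsTorsionFree Rp Mp := ⟨fun r hr => by
    obtain ⟨a, s, rfl⟩ := IsLocalization.exists_mk'_eq p.primeCompl r
    have ha : a ≠ 0 := fun h => hr.ne_zero (by rw [h, IsLocalization.mk'_zero])
    intro x y hxy
    refine LocalizedModule.map_injective p.primeCompl (LinearMap.lsmul R M a) (htf a ha) ?_
    have h1 := congrArg (fun z => algebraMap R Rp (s : R) • z) hxy
    simp only [smul_smul, IsLocalization.mk'_spec'] at h1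
    have h2 : ∀ z : Mp, LocalizedModule.map p.primeCompl (LinearMap.lsmul R M a) z = algebraMap R Rp a • z := by
      intro z
      induction z using LocalizedModule.induction_on with
      | h m t => rw [LocalizedModule.map_mk, algebraMap_smul, LocalizedModule.smul'_mk]; rfl
    rw [h2, h2]
    exact h1⟩
  by_cases h1 : p.height ≤ 1
  · left
    haveI : IsPrincipalIdealRing Rp := by
      by_cases h0 : p = ⊥
      · haveI : Ring.KrullDimLE 0 Rp := by
          refine Ring.krullDimLE_iff.2 ?_
          rw [IsLocalization.AtPrime.ringKrullDim_eq_height p Rp]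
          subst h0
          simp
        letI := (Ring.KrullDimLE.isField_of_isDomain (R := Rp)).toField
        infer_instance
      · haveI := Abhyankar.Val.isDVR_atPrime R p h0 h1
        infer_instance
    haveI : Module.Free Rp Mp := Module.free_of_finite_type_torsion_free'
    infer_instance
  · right
    rcases subsingleton_or_nontrivial Mp with hs | hs
    · rw [LocCoh.depth, Depth.Basic.idealDepth_subsingleton]
      exact le_top
    · have hann : Module.annihilator Rp Mp = ⊥ := by
        refine (Submodule.eq_bot_iff _).2 fun r hr => ?_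
        by_contra hr0
        obtain ⟨m, hm⟩ := exists_ne (0 : Mp)
        exact hm ((htf'.isSMulRegular (IsRegular.of_ne_zero hr0))
          (by simp only [Module.mem_annihilator.1 hr m, smul_zero]))
      have hd : Module.supportDim Rp Mp = ((p.height : ℕ∞) : WithBot ℕ∞) := by
        rw [Module.supportDim_eq_ringKrullDim_quotient_annihilator,
          ringKrullDim_eq_of_ringEquiv ((Ideal.quotEquivOfEq hann).trans (RingEquiv.quotientBot Rp)),
          IsLocalization.AtPrime.ringKrullDim_eq_height p Rp]
      have h2 := hS p
      rw [hd] at h2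
      have h3 : (2 : ℕ∞) ≤ p.height := by
        have := ENat.add_one_le_iff (m := 1) (n := p.height) (by simp) |>.2 (not_le.1 h1)
        simpa [one_add_one_eq_two] using this
      exact WithBot.coe_le_coe.1 (le_trans (le_min le_rfl (WithBot.coe_le_coe.2 h3)) h2)

/-- Regular elements act injectively on the lowest cohomology module of a dualizing complex. -/
theorem smul_injective_lowest {A : Type u} [CommRing A] [IsNoetherianRing A] {ω : Dual.D A}
    (hω : Dual.IsDualizing A ω) {n : ℤ} (hlow : ∀ i, i < n → Subsingleton (Dual.HD A ω i))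
    {L : Type u} [AddCommGroup L] [Module A L] (e : Dual.HD A ω n ≃ₗ[A] L) (y : A)
    (hy : y ∈ nonZeroDivisors A) : Function.Injective (fun l : L => y • l) := by
  have h := (DMod.Bottom.exists_bottom_seq hω A n (fun q _ => DualSch.StalkLocal.le_deg hω hlow q) y
    fun q _ hq => by
      obtain ⟨P, hP, hPq⟩ := Ideal.exists_minimalPrimes_le (bot_le : ⊥ ≤ q.asIdeal)
      have hyP : y ∉ P := fun h =>
        Set.disjoint_left.1 (Ideal.disjoint_nonZeroDivisors_of_mem_minimalPrimes hP) h hy
      exact lt_of_le_of_lt (DualSch.StalkLocal.le_deg hω hlow ⟨P, hP.1.1⟩)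
        (DMod.Degree.deg_lt hω (lt_of_le_of_ne (show (⟨P, hP.1.1⟩ : PrimeSpectrum A) ≤ q from hPq)
          fun he => hyP (by rw [← he] at hq; exact hq)))).1
  let g := (DMod.Basic.homUnitShiftEquiv ω n).trans e
  intro a b hab
  obtain ⟨a, rfl⟩ := g.surjective a
  obtain ⟨b, rfl⟩ := g.surjective b
  exact congrArg g (h (g.injective (by simpa only [map_smul] using hab)))

end Groth.Agent.Lib.RightAdjCoh.NormalRefl
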