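import Groth.Agent.Lib.RightAdjCoh.Pn
import Groth.Agent.Lib.RightAdjCoh.Comp
import Groth.Agent.Lib.RightAdjTensor.Coprod
import Groth.Agent.H56.KProj.Main

/-!
# The right adjoint for `P^n_R → Spec R` at the structure sheaf: `a(O) ≅ O(-n-1)[n]`
-/

set_option autoImplicit false
set_option linter.unusedSectionVars false
set_option linter.style.haveILetI false
set_option backward.isDefEq.respectTransparency false

universe u

open CategoryTheory Limits AlgebraicGeometry Pretriangulated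

attribute [local instance] HasDerivedCategory.standard

namespace Groth.Agent.Lib.RightAdjCoh.PnComp

open Groth.Agent.Lib DerivedOX Groth.Agent.H83.ProjPCCrit Groth.Agent.H83.AmpleGen
open Groth.Agent.Lib.Perfect (Stupid.trunc Stupid.ι Stupid.isIso_ι Stupid.isZero_trunc)

variable {n : ℕ} {R : Type u} [CommRing R]

local notation "P" => CohB1.ProjSpace n R
local notation "p" => CohB1.ProjSpace.toSpec n R

theorem nonempty_Rpush_oneD [DCoh.HasRpush p] :
    Nonempty ((DCoh.Rpush p).obj (CompactUnit.oneD P) ≅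
      CompactUnit.oneD (Spec (CommRingCat.of R))) := by
  let e := ProjSpace.BaseChange.overSpecIso n R
  let pr := KRR.pr n (Spec (CommRingCat.of R))
  haveI := DerivedOX.Exists.hasRpush e.inv
  haveI := DerivedOX.Exists.hasRpush pr
  haveI := DerivedOX.Exists.hasRpush (e.inv ≫ pr)
  obtain ⟨a⟩ := H56.KProj.nonempty_Rpush_one (r := n) (S := Spec (CommRingCat.of R))
  let a₁ := (DCoh.Rpush pr).mapIso ((pushIso' e.inv e.hom e.hom_inv_id).app (CompactUnit.oneD P) ≪≫
    CompactUnit.restrictOneIso e.hom) ≪≫ a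
  let a₂ := ((PullComp.rpushCompIso e.inv pr).app (CompactUnit.oneD P)).symm ≪≫ a₁
  have key : ∀ (g : P ⟶ Spec (CommRingCat.of R)), g = e.inv ≫ pr → ∀ [DCoh.HasRpush g],
      Nonempty ((DCoh.Rpush g).obj (CompactUnit.oneD P) ≅ CompactUnit.oneD (Spec (CommRingCat.of R))) := by
    rintro g rfl _
    exact ⟨a₂⟩
  exact key p (ProjSpace.BaseChange.overSpecIso_inv_toBase n R).symm

theorem isIso_unit [DCoh.HasRpush p] [DCoh.HasLpull p] {K : DCoh.D (Spec (CommRingCat.of R))}
    (hK : DCoh.IsPerfect K) : IsIso ((PullPushAdj.derivedAdjunction p).unit.app K) :=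
  H56.KProj.isIso_unit p (nonempty_Rpush_oneD (n := n) (R := R)).some hK

variable [DCoh.HasRpush (CohB1.ProjSpace.toSpec n R)]
  (hf : DCoh.RpushPreservesQCoh (CohB1.ProjSpace.toSpec n R))
  {a : DCoh.DQCoh (Spec (CommRingCat.of R)) ⥤ DCoh.DQCoh (CohB1.ProjSpace n R)}
  (adj : DCoh.RpushQ (CohB1.ProjSpace.toSpec n R) hf ⊣ a)

/-- `Rp_* a K = K`. -/
theorem isIso_counit (K : DCoh.DQCoh (Spec (CommRingCat.of R))) :
    IsIso (adj.counit.app K) := by
  haveI := LeftExists.hasLpull p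
  haveI := RightAdjTensor.additive_a _ hf adj
  let D := PullPushAdj.derivedAdjunction p
  refine RightAdjTensor.isIso_of_bij_perfect _ fun E hE => ?_
  haveI : IsIso (D.unit.app E.obj) := isIso_unit hE
  let L : DCoh.DQCoh P := ⟨(DCoh.Lpull p).obj E.obj, QCohLocal.isQCohD_Lpull p E.property⟩
  let ν : E ⟶ (DCoh.RpushQ p hf).obj L := ObjectProperty.homMk (D.unit.app E.obj)
  haveI : IsIso ν := by
    haveI : IsIso ((ObjectProperty.ι _).map ν) := inferInstanceAs (IsIso (D.unit.app E.obj))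
    exact isIso_of_fully_faithful (ObjectProperty.ι _) ν
  have htr : ∀ g : L ⟶ a.obj K, ((ν ≫ (DCoh.RpushQ p hf).map g) ≫ adj.counit.app K) =
      ν ≫ (adj.homEquiv L K).symm g := fun g => by
    rw [Category.assoc, adj.homEquiv_counit]
  have hsur : ∀ g : E ⟶ (DCoh.RpushQ p hf).obj (a.obj K), ∃ h : L ⟶ a.obj K,
      ν ≫ (DCoh.RpushQ p hf).map h = g := fun g => by
    let h₀ := (D.homEquiv E.obj (a.obj K).obj).symm g.hom
    refine ⟨ObjectProperty.homMk h₀, ObjectProperty.hom_ext _ ?_⟩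
    change D.unit.app E.obj ≫ (DCoh.Rpush p).map h₀ = g.hom
    exact (D.homEquiv_unit ..).symm.trans ((D.homEquiv _ _).apply_symm_apply _)
  refine ⟨fun g g' h => ?_, fun t => ⟨ν ≫ (DCoh.RpushQ p hf).map (adj.homEquiv L K (inv ν ≫ t)), ?_⟩⟩
  · obtain ⟨h₁, rfl⟩ := hsur g
    obtain ⟨h₂, rfl⟩ := hsur g'
    have h' : (adj.homEquiv L K).symm h₁ = (adj.homEquiv L K).symm h₂ :=
      (cancel_epi ν).1 ((htr h₁).symm.trans (h.trans (htr h₂)))
    rw [(adj.homEquiv L K).symm.injective h']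
  · change (ν ≫ (DCoh.RpushQ p hf).map _) ≫ adj.counit.app K = t
    rw [htr, Equiv.symm_apply_apply, IsIso.hom_inv_id_assoc]

/-- The small negative twists have no direct image. -/
theorem isZero_Rpush_twist {k : ℤ} (hk : -(n : ℤ) ≤ k) (hk' : k < 0) (s : ℤ) :
    IsZero ((DCoh.Rpush p).obj ((DCoh.inD P (PT n R k))⟦s⟧)) := by
  have hO : DCoh.IsQCohD (CompactUnit.oneD P) :=
    Perfect.QCohD.isQCohD_of_isPerfect (Gen43.Affine.isPerfect_oneD' _)
  refine (OpenSupport.isZero_of_homology _ fun j => ?_ : IsZero (RT n R k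
    ((CompactUnit.oneD P)⟦s⟧))).of_iso ((DCoh.Rpush p).mapIso (nonempty_Tq_one n R k s).some).symm
  refine (hd_iff n R k (-j) j (by omega) (CompactUnit.qcD_shift _ _ hO)).1 fun χ => ?_
  obtain ⟨e⟩ := nonempty_Tq_one n R k s
  exact (cancel_mono e.hom).1 ((hom_one_twist_neg (by omega) hk hk' (-j) s (χ ≫ e.hom)).trans zero_comp.symm)

include hf adj in
/-- The direct images of the positive twists of `a K` vanish. -/
theorem isZero_RT_a (K : DCoh.DQCoh (Spec (CommRingCat.of R))) {d : ℕ} (hd : 0 < d) (hd' : d ≤ n) :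
    IsZero (RT n R (d : ℤ) (a.obj K).obj) := by
  have hone : DCoh.IsQCohD (CompactUnit.oneD P) :=
    Perfect.QCohD.isQCohD_of_isPerfect (Gen43.Affine.isPerfect_oneD' _)
  refine OpenSupport.isZero_of_homology _ fun i => ?_
  refine (hd_iff n R (d : ℤ) (-i) i (by omega) (a.obj K).property).1 fun φ => ?_
  let Q₀ : DCoh.DQCoh P := ⟨_, isQCohD_Tq n R (-(d : ℤ)) (CompactUnit.qcD_shift _ (-i) hone)⟩
  have hz : IsZero ((DCoh.Rpush p).obj Q₀.obj) :=
    (isZero_Rpush_twist (n := n) (R := R) (k := -(d : ℤ)) (by omega) (by omega) (-i)).of_iso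
      ((DCoh.Rpush p).mapIso (nonempty_Tq_one n R (-(d : ℤ)) (-i)).some)
  obtain ⟨e⟩ := nonempty_Tq_cancel n R (d : ℤ) (-(d : ℤ)) (add_neg_cancel _) (a.obj K).obj
  haveI := faithful_Tq n R (-(d : ℤ))
  have h1 : (adj.homEquiv Q₀ K).symm (ObjectProperty.homMk ((Tq n R (-(d : ℤ))).map φ ≫ e.hom)) =
      (adj.homEquiv Q₀ K).symm (adj.homEquiv Q₀ K 0) := ObjectProperty.hom_ext _ (hz.eq_of_src _ _)
  have h2 := congrArg (fun t => t.hom) ((adj.homEquiv Q₀ K).symm.injective h1)
  haveI := RightAdjTensor.additive_a _ hf adj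
  have h3 : (adj.homEquiv Q₀ K 0).hom = 0 := by
    rw [adj.homEquiv_unit, Functor.map_zero, comp_zero]
    rfl
  apply (Tq n R (-(d : ℤ))).map_injective
  rw [Functor.map_zero]
  exact (cancel_mono e.hom).1 ((h2.trans h3).trans zero_comp.symm)

/-- A functor killing the lower terms only sees the top one. -/
theorem nonempty_top {X : Scheme.{u}} {C : Type*} [Category C] [HasZeroObject C] [HasShift C ℤ]
    [Preadditive C] [∀ k : ℤ, (shiftFunctor C k).Additive] [Pretriangulated C]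
    (G : DCoh.D X ⥤ C) [G.CommShift ℤ] [G.IsTriangulated] (b : ℤ) :
    ∀ (m : ℕ) (F : CochainComplex X.Modules ℤ), (∀ i, i < b - m ∨ b < i → IsZero (F.X i)) →
      (∀ i, i < b → IsZero (G.obj (sQ i (F.X i)))) →
      Nonempty (G.obj (DerivedCategory.Q.obj F) ≅ G.obj (sQ b (F.X b))) := by
  intro m
  induction m with
  | zero =>
    intro F hz _
    haveI : F.IsStrictlyGE b := (CochainComplex.isStrictlyGE_iff _ _).2 fun i hi => hz i (Or.inl (by omega))
    haveI : F.IsStrictlyLE b := (CochainComplex.isStrictlyLE_iff _ _).2 fun i hi => hz i (Or.inr hi)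
    obtain ⟨M, ⟨e⟩⟩ := CochainComplex.exists_iso_single F b
    let eM : M ≅ F.X b := (HomologicalComplex.singleObjXSelf (ComplexShape.up ℤ) b M).symm ≪≫
      ((HomologicalComplex.eval _ _ b).mapIso e).symm
    exact ⟨G.mapIso (DerivedCategory.Q.mapIso (e ≪≫
      (HomologicalComplex.single X.Modules (ComplexShape.up ℤ) b).mapIso eM))⟩
  | succ m ih =>
    intro F hz hG
    let a := b - (m + 1 : ℕ)
    have hbelow : ∀ i, i < a → IsZero (F.X i) := fun i hi => hz i (Or.inl hi)
    let π : F ⟶ (HomologicalComplex.single X.Modules (ComplexShape.up ℤ) a).obj (F.X a) :=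
      HomologicalComplex.mkHomToSingle (𝟙 _) (fun i (hi : i + 1 = a) =>
        (hbelow i (by omega)).eq_of_src _ _)
    let S := ShortComplex.mk (Stupid.ι F (a + 1)) π (by
      apply HomologicalComplex.to_single_hom_ext
      exact (Stupid.isZero_trunc F (a + 1) a (by omega)).eq_of_src _ _)
    have σ : ∀ k, (S.map (HomologicalComplex.eval X.Modules (ComplexShape.up ℤ) k)).Splitting := fun k => by
      by_cases hk : a + 1 ≤ k
      · haveI : IsIso (S.map (HomologicalComplex.eval X.Modules (ComplexShape.up ℤ) k)).f :=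
          Stupid.isIso_ι F (a + 1) k hk
        exact DerivedOX.DualFree.splitting₁ _
          (HomologicalComplex.isZero_single_obj_X (ComplexShape.up ℤ) a (F.X a) k (by omega))
      · haveI : IsIso (S.map (HomologicalComplex.eval X.Modules (ComplexShape.up ℤ) k)).g := by
          change IsIso (π.f k)
          by_cases h₀ : k = a
          · subst h₀
            rw [show π.f a = 𝟙 _ ≫ (HomologicalComplex.singleObjXSelf (ComplexShape.up ℤ) a (F.X a)).inv from
              HomologicalComplex.mkHomToSingle_f _ _]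
            infer_instance
          · exact DerivedOX.OpenSupport.isIso_of_zero _ (hbelow k (by omega))
              (HomologicalComplex.isZero_single_obj_X (ComplexShape.up ℤ) a (F.X a) k h₀)
        exact DerivedOX.DualFree.splitting₃ _ (Stupid.isZero_trunc F (a + 1) k (by omega))
    have hS : S.ShortExact :=
      HomologicalComplex.shortExact_of_degreewise_shortExact S fun k => (σ k).shortExact
    have hT := G.map_distinguished _ (DerivedCategory.triangleOfSES_distinguished hS)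
    have h₁ := (Triangle.isZero₃_iff_isIso₁ _ hT).1 (hG a (by omega))
    let e₁ : G.obj (DerivedCategory.Q.obj (Stupid.trunc F (a + 1))) ≅ G.obj (DerivedCategory.Q.obj F) :=
      @asIso _ _ _ _ _ h₁
    obtain ⟨e₂⟩ := ih (Stupid.trunc F (a + 1)) (fun i hi => by
      by_cases hi' : a + 1 ≤ i
      · haveI := Stupid.isIso_ι F (a + 1) i hi'
        exact (hz i (by omega)).of_iso (asIso ((Stupid.ι F (a + 1)).f i))
      · exact Stupid.isZero_trunc F (a + 1) i (by omega)) fun i hi => by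
      by_cases hi' : a + 1 ≤ i
      · haveI := Stupid.isIso_ι F (a + 1) i hi'
        exact (hG i hi).of_iso (G.mapIso (DerivedCategory.Q.mapIso
          ((HomologicalComplex.single X.Modules (ComplexShape.up ℤ) i).mapIso
            (asIso ((Stupid.ι F (a + 1)).f i)))))
      · exact G.map_isZero ((HomologicalComplex.single X.Modules (ComplexShape.up ℤ) i ⋙
          DerivedCategory.Q).map_isZero (Stupid.isZero_trunc F (a + 1) i (by omega)))
    haveI := Stupid.isIso_ι F (a + 1) b (by omega)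
    exact ⟨e₁.symm ≪≫ e₂ ≪≫ G.mapIso (DerivedCategory.Q.mapIso
      ((HomologicalComplex.single X.Modules (ComplexShape.up ℤ) b).mapIso
        (asIso ((Stupid.ι F (a + 1)).f b))))⟩

/-- `Rp_* O(-n-1)[n] ≅ O`. -/
theorem nonempty_Rpush_top :
    Nonempty ((DCoh.Rpush p).obj ((DCoh.inD P (Twist.twistProjSpace n R (-((n : ℤ) + 1))))⟦(n : ℤ)⟧) ≅
      CompactUnit.oneD (Spec (CommRingCat.of R))) := by
  obtain ⟨C, hC, hX, hz⟩ := Groth.Agent.S1071.result n R (-((n : ℤ) + 1))
  let G := DCoh.Rpush p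
  let sq : ∀ (i : ℤ) (M : (P).Modules), (DCoh.inD P M)⟦-i⟧ ≅ sQ i M := fun i M =>
    ((DerivedCategory.singleFunctors (P).Modules).shiftIso (-i) i 0 (by omega)).app M ≪≫
      (DerivedCategory.singleFunctorIsoCompQ _ i).app M
  have hG : ∀ i : ℤ, 1 ≤ i → i < (n : ℤ) + 1 → IsZero (G.obj (sQ i (C.X i))) := fun i hi hi' => by
    obtain ⟨j, rfl⟩ := Int.eq_ofNat_of_zero_le (show 0 ≤ i by omega)
    obtain ⟨e⟩ := hX j (by omega)
    let F₀ := HomologicalComplex.single (P).Modules (ComplexShape.up ℤ) (j : ℤ) ⋙ DerivedCategory.Q ⋙ G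
    refine IsZero.of_iso ?_ (F₀.mapIso e ≪≫ PreservesCoproduct.iso F₀ _)
    refine (IsZero.iff_id_eq_zero _).2 (Sigma.hom_ext _ _ fun k => IsZero.eq_of_src ?_ _ _)
    exact (isZero_Rpush_twist (n := n) (R := R) (k := -((n : ℤ) + 1) + (j : ℤ)) (by omega) (by omega)
      (-(j : ℤ))).of_iso (G.mapIso (sq (j : ℤ) _).symm)
  let π : C ⟶ (HomologicalComplex.single (P).Modules (ComplexShape.up ℤ) 0).obj (C.X 0) :=
    HomologicalComplex.mkHomToSingle (𝟙 _) (fun i (hi : i + 1 = 0) => (hz i (by omega)).eq_of_src _ _)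
  let T := Stupid.trunc C 1
  let S := ShortComplex.mk (Stupid.ι C 1) π (by
    apply HomologicalComplex.to_single_hom_ext
    exact (Stupid.isZero_trunc C 1 0 (by omega)).eq_of_src _ _)
  have σ : ∀ k, (S.map (HomologicalComplex.eval (P).Modules (ComplexShape.up ℤ) k)).Splitting := fun k => by
    by_cases hk : 1 ≤ k
    · haveI : IsIso (S.map (HomologicalComplex.eval (P).Modules (ComplexShape.up ℤ) k)).f :=
        Stupid.isIso_ι C 1 k hk
      exact DerivedOX.DualFree.splitting₁ _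
        (HomologicalComplex.isZero_single_obj_X (ComplexShape.up ℤ) 0 (C.X 0) k (by omega))
    · haveI : IsIso (S.map (HomologicalComplex.eval (P).Modules (ComplexShape.up ℤ) k)).g := by
        change IsIso (π.f k)
        by_cases h₀ : k = 0
        · subst h₀
          rw [show π.f 0 = 𝟙 _ ≫ (HomologicalComplex.singleObjXSelf (ComplexShape.up ℤ) 0 (C.X 0)).inv from
            HomologicalComplex.mkHomToSingle_f _ _]
          infer_instance
        · exact DerivedOX.OpenSupport.isIso_of_zero _ (hz k (by omega))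
            (HomologicalComplex.isZero_single_obj_X (ComplexShape.up ℤ) 0 (C.X 0) k h₀)
      exact DerivedOX.DualFree.splitting₃ _ (Stupid.isZero_trunc C 1 k (by omega))
  have hS : S.ShortExact :=
    HomologicalComplex.shortExact_of_degreewise_shortExact S fun k => (σ k).shortExact
  have hd := DerivedCategory.triangleOfSES_distinguished hS
  have h0 : IsZero (DerivedCategory.Q.obj C) := DerivedOX.OpenSupport.isZero_of_homology _ fun i =>
    ((HomologicalComplex.exactAt_iff_isZero_homology _ _).1 (hC i)).of_iso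
      ((DerivedCategory.homologyFunctorFactors (P).Modules i).app C)
  have h₃ := (Triangle.isZero₂_iff_isIso₃ _ hd).1 h0
  let e₃ : sQ 0 (C.X 0) ≅ (DerivedCategory.Q.obj T)⟦(1 : ℤ)⟧ := @asIso _ _ _ _ _ h₃
  obtain ⟨eT⟩ := nonempty_top G ((n : ℤ) + 1) n T (fun i hi => by
    by_cases hi' : 1 ≤ i
    · haveI := Stupid.isIso_ι C 1 i hi'
      exact (hz i (by omega)).of_iso (asIso ((Stupid.ι C 1).f i))
    · exact Stupid.isZero_trunc C 1 i (by omega)) fun i hi => by
    by_cases hi' : 1 ≤ i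
    · haveI := Stupid.isIso_ι C 1 i hi'
      exact (hG i hi' hi).of_iso (G.mapIso (DerivedCategory.Q.mapIso
        ((HomologicalComplex.single (P).Modules (ComplexShape.up ℤ) i).mapIso
          (asIso ((Stupid.ι C 1).f i)))))
    · exact G.map_isZero ((HomologicalComplex.single (P).Modules (ComplexShape.up ℤ) i ⋙
        DerivedCategory.Q).map_isZero (Stupid.isZero_trunc C 1 i (by omega)))
  haveI := Stupid.isIso_ι C 1 ((n : ℤ) + 1) (by omega)
  obtain ⟨e0⟩ := hX 0 (by omega)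
  obtain ⟨eN⟩ := hX (n + 1) le_rfl
  haveI : Unique (Fin ((n + 1).choose 0)) := by rw [Nat.choose_zero_right]; infer_instance
  haveI : Unique (Fin ((n + 1).choose (n + 1))) := by rw [Nat.choose_self]; infer_instance
  let i₀ : C.X 0 ≅ Twist.twistProjSpace n R (-((n : ℤ) + 1)) :=
    e0 ≪≫ coproductUniqueIso _ ≪≫ eqToIso (congrArg (Twist.twistProjSpace n R) (by simp))
  let iN : T.X ((n : ℤ) + 1) ≅ Coh.structureModule P :=
    asIso ((Stupid.ι C 1).f ((n : ℤ) + 1)) ≪≫ eqToIso (congrArg C.X (by push_cast; rfl)) ≪≫ eN ≪≫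
      coproductUniqueIso _ ≪≫ eqToIso (congrArg (Twist.twistProjSpace n R) (by push_cast; omega)) ≪≫
      ProjCoh.Coherent.twZero
  obtain ⟨e1⟩ := nonempty_Rpush_oneD (n := n) (R := R)
  let s₀ : DCoh.inD P (Twist.twistProjSpace n R (-((n : ℤ) + 1))) ≅ sQ 0 (C.X 0) :=
    (DerivedCategory.singleFunctor _ 0).mapIso i₀.symm ≪≫ (DerivedCategory.singleFunctorIsoCompQ _ 0).app _
  let sN : sQ ((n : ℤ) + 1) (T.X ((n : ℤ) + 1)) ≅ (CompactUnit.oneD P)⟦-((n : ℤ) + 1)⟧ :=
    (sq _ _).symm ≪≫ (shiftFunctor _ _).mapIso ((DerivedCategory.singleFunctor _ 0).mapIso iN)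
  exact ⟨(G.commShiftIso (n : ℤ)).app _ ≪≫ (shiftFunctor _ (n : ℤ)).mapIso
    (G.mapIso (s₀ ≪≫ e₃) ≪≫ (G.commShiftIso (1 : ℤ)).app _ ≪≫ (shiftFunctor _ (1 : ℤ)).mapIso
      (eT ≪≫ G.mapIso sN ≪≫ (G.commShiftIso (-((n : ℤ) + 1))).app _ ≪≫
        (shiftFunctor _ (-((n : ℤ) + 1))).mapIso e1) ≪≫
      ((shiftFunctorAdd' _ (-((n : ℤ) + 1)) 1 (-(n : ℤ)) (by omega)).app _).symm) ≪≫
    (shiftFunctorCompIsoId _ (-(n : ℤ)) (n : ℤ) (by omega)).app _⟩

include hf adj in
/-- `a(O) ≅ O(-n-1)[n]`. -/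
theorem nonempty_a_one (O : DCoh.DQCoh (Spec (CommRingCat.of R)))
    (hO : Nonempty (O.obj ≅ CompactUnit.oneD (Spec (CommRingCat.of R)))) :
    Nonempty ((a.obj O).obj ≅
      (DCoh.inD P (Twist.twistProjSpace n R (-((n : ℤ) + 1))))⟦(n : ℤ)⟧) := by
  obtain ⟨o⟩ := hO
  have hone : DCoh.IsQCohD (CompactUnit.oneD P) :=
    Perfect.QCohD.isQCohD_of_isPerfect (Gen43.Affine.isPerfect_oneD' _)
  obtain ⟨eT⟩ := nonempty_Tq_one n R (-((n : ℤ) + 1)) (n : ℤ)
  let T : DCoh.DQCoh P := ⟨_, isQCohD_Tq n R (-((n : ℤ) + 1)) (CompactUnit.qcD_shift _ (n : ℤ) hone)⟩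
  obtain ⟨e⟩ := nonempty_Rpush_top (n := n) (R := R)
  let ψ : (DCoh.RpushQ p hf).obj T ≅ O :=
    (ObjectProperty.fullyFaithfulι _).preimageIso ((DCoh.Rpush p).mapIso eT ≪≫ e ≪≫ o.symm)
  let φ : T ⟶ a.obj O := adj.homEquiv T O ψ.hom
  haveI := isIso_counit hf adj O
  haveI : IsIso ((DCoh.RpushQ p hf).map φ) := by
    have h : (DCoh.RpushQ p hf).map φ ≫ adj.counit.app O = ψ.hom := by
      have h1 := (adj.homEquiv T O).symm_apply_apply ψ.hom
      rw [adj.homEquiv_counit] at h1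
      exact h1
    exact IsIso.of_isIso_fac_right h
  haveI hφ : IsIso ((DCoh.Rpush p).map φ.hom) :=
    inferInstanceAs (IsIso ((ObjectProperty.ι _).map ((DCoh.RpushQ p hf).map φ)))
  obtain ⟨Cn, g, δ, hT⟩ := distinguished_cocone_triangle φ.hom
  have hq : DCoh.IsQCohD Cn := TildeEquiv.isQCohD_mor₃ _ hT T.property (a.obj O).property
  have hz : ∀ d : ℕ, d ≤ n → IsZero (RT n R (d : ℤ) Cn) := fun d hd => by
    have hT' := (DCoh.Rpush p).map_distinguished _ ((Tq n R (d : ℤ)).map_distinguished _ hT)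
    refine (Triangle.isZero₃_iff_isIso₁ _ hT').2 ?_
    rcases Nat.eq_zero_or_pos d with rfl | h
    · haveI : IsIso ((DCoh.Rpush p).map ((Tq n R ((0 : ℕ) : ℤ)).map φ.hom)) := by
        let w : Tq n R ((0 : ℕ) : ℤ) ≅ 𝟭 _ := H56.KProj.derivedId _ (twCongr ProjCoh.Coherent.twZero ≪≫
          NatIso.ofComponents (fun G => TensorMod.Basic.rightUnit G) fun g => TensorMod.Basic.rightUnit_natural g)
        have := w.hom.naturality φ.hom
        rw [Functor.id_map] at this
        rw [show (Tq n R ((0 : ℕ) : ℤ)).map φ.hom =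
          w.hom.app _ ≫ φ.hom ≫ w.inv.app _ from by rw [← reassoc_of% this, Iso.hom_inv_id_app]; exact (Category.comp_id _).symm]
        simp only [Functor.map_comp]
        infer_instance
      assumption
    · refine OpenSupport.isIso_of_zero _ ?_ (isZero_RT_a hf adj O h hd)
      obtain ⟨w⟩ := nonempty_Tq_add n R (-((n : ℤ) + 1)) (d : ℤ) (-((n : ℤ) + 1) + d) rfl
        ((CompactUnit.oneD P)⟦(n : ℤ)⟧)
      exact (isZero_Rpush_twist (n := n) (R := R) (by omega) (by omega) (n : ℤ)).of_iso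
        ((DCoh.Rpush p).mapIso (w ≪≫ (nonempty_Tq_one n R _ (n : ℤ)).some))
  have hle : ∀ b : ℤ, Cn.IsLE b := fun b => isLE_of_hd hq b fun d hd m _ =>
    (hd_iff n R (d : ℤ) m (-m) (by omega) hq).2 ((DerivedCategory.homologyFunctor _ _).map_isZero (hz d hd))
  have hC0 : IsZero Cn := OpenSupport.isZero_of_homology _ fun i => by
    haveI := hle (i - 1)
    exact DerivedCategory.isZero_of_isLE Cn (i - 1) i (by omega)
  have hiso := (Triangle.isZero₃_iff_isIso₁ _ hT).1 hC0
  exact ⟨(@asIso _ _ _ _ φ.hom hiso).symm ≪≫ eT⟩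

end Groth.Agent.Lib.RightAdjCoh.PnComp
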