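import Groth.Agent.Lib.RightAdjCoh.Dualizing
import Groth.Agent.Lib.DMod.ShriekSelf
import Groth.Agent.Lib.DualSch.Affine
import Groth.Prelude.Def_DualSh
import Groth.Agent.Lib.GorenMor.AffineSpace
import Groth.Agent.Lib.FibreDim.Chart

/-!
# The upper shriek of a compactified morphism read on affine charts
-/

set_option autoImplicit false
set_option linter.unusedSectionVars false
set_option linter.style.haveILetI false
set_option backward.isDefEq.respectTransparency false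

universe u

open CategoryTheory Limits AlgebraicGeometry Pretriangulated

attribute [local instance] HasDerivedCategory.standard

namespace Groth.Agent.Lib.RightAdjCoh.Chart

open Groth.Agent.Lib DerivedOX Gen43.Restrict RightAdjTensor

/-- A right adjoint of restriction of scalars commutes with shifts. -/
theorem nonempty_shift_adjR {P B : Type u} [CommRing P] [CommRing B] (σ : P →+* B)
    {Rσ : Dual.D P ⥤ Dual.D B} (adj : DRing.restrictD σ ⊣ Rσ) (M : Dual.D P) (n : ℤ) :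
    Nonempty (Rσ.obj (M⟦n⟧) ≅ (Rσ.obj M)⟦n⟧) := by
  haveI : Rσ.Additive := adj.right_adjoint_additive
  letI := adj.rightAdjointCommShift ℤ
  exact ⟨(Rσ.commShiftIso n).app M⟩

variable [∀ (R : CommRingCat.{u}), PreservesFiniteLimits (tilde.functor R)]
  {X Xbar Y : Scheme.{u}}

/-- `f^!` on an affine chart is `shriekVia`. -/
theorem nonempty_shriek_chart [IsNoetherian Y] (f : X ⟶ Y) (jX : X ⟶ Xbar) [IsOpenImmersion jX]
    (pf : Xbar ⟶ Y) [IsProper pf] [DCoh.HasRpush pf] (hjf : jX ≫ pf = f) (hp : DCoh.RpushPreservesQCoh pf)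
    {a : DCoh.DQCoh Y ⥤ DCoh.DQCoh Xbar} (adj : DCoh.RpushQ pf hp ⊣ a)
    {A B : Type u} [CommRing A] [CommRing B] [Algebra A B] [IsNoetherianRing A]
    (jA : Spec (CommRingCat.of A) ⟶ Y) [IsOpenImmersion jA]
    (j : Spec (CommRingCat.of B) ⟶ X) [IsOpenImmersion j]
    (hc : j ≫ f = Spec.map (CommRingCat.ofHom (algebraMap A B)) ≫ jA)
    {n : ℕ} (ψ : MvPolynomial (Fin n) A →ₐ[A] B) (hψ : Function.Surjective ψ)
    [DRing.HasLBaseChange (algebraMap A (MvPolynomial (Fin n) A))]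
    {Rψ : Dual.D (MvPolynomial (Fin n) A) ⥤ Dual.D B} (adjψ : DRing.restrictD ψ.toRingHom ⊣ Rψ)
    (K : DCoh.DQCoh Y) (hK : ∃ c, K.obj.IsGE c) (ω : Dual.D A)
    (eω : (DCoh.restrictD jA).obj K.obj ≅ (DCoh.tildeD (CommRingCat.of A)).obj ω) :
    Nonempty ((DCoh.restrictD j).obj ((a ⋙ ObjectProperty.ι _ ⋙ DCoh.restrictD jX).obj K) ≅
      (DCoh.tildeD (CommRingCat.of B)).obj (Dual2.shriekVia n Rψ ω)) := by
  haveI := isNoetherian_of_proper pf
  let W := pf ⁻¹ᵁ jA.opensRange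
  let g : (W : Scheme.{u}) ⟶ Spec (CommRingCat.of A) := (pf ∣_ jA.opensRange) ≫ jA.isoOpensRange.inv
  haveI : IsProper (pf ∣_ jA.opensRange) := IsZariskiLocalAtTarget.restrict (‹IsProper pf› : IsProper pf) _
  haveI : IsProper g := inferInstance
  haveI := DerivedOX.Exists.hasRpush (pf ∣_ jA.opensRange)
  haveI := DerivedOX.Exists.hasRpush jA.isoOpensRange.inv
  haveI := DerivedOX.Exists.hasRpush g
  haveI : IsNoetherian (Spec (CommRingCat.of A)) := inferInstance
  haveI := isNoetherian_of_proper g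
  obtain ⟨b, ⟨adjb⟩⟩ := exists_adj g (preservesQCoh _)
  obtain ⟨esq⟩ := nonempty_bc_square pf _ adj jA W.ι (Scheme.Opens.opensRange_ι _) g _ adjb
    (bcIsoOpen pf jA) (Dual3.bddι Y) (fun A => A.property)
  have hsub : Set.range (j ≫ jX) ⊆ Set.range W.ι := by
    rw [Scheme.Opens.range_ι]
    rintro _ ⟨z, rfl⟩
    show pf ((j ≫ jX) z) ∈ jA.opensRange
    rw [← Scheme.Hom.comp_apply, Category.assoc, hjf, hc, Scheme.Hom.comp_apply]
    exact ⟨_, rfl⟩
  let j' : Spec (CommRingCat.of B) ⟶ W := IsOpenImmersion.lift W.ι (j ≫ jX) hsub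
  have hj' : j' ≫ W.ι = j ≫ jX := IsOpenImmersion.lift_fac _ _ _
  haveI : IsOpenImmersion (j' ≫ W.ι) := by rw [hj']; infer_instance
  haveI : IsOpenImmersion j' := IsOpenImmersion.of_comp j' W.ι
  have hg : g ≫ jA = W.ι ≫ pf := by
    simp only [g, Category.assoc, Scheme.Hom.isoOpensRange_inv_comp, morphismRestrict_ι]
    rfl
  have hj : Spec.map (CommRingCat.ofHom ψ.toRingHom) ≫ Spec.map (CommRingCat.ofHom MvPolynomial.C) =
      j' ≫ g := by
    rw [← cancel_mono jA, Category.assoc j', hg, ← Category.assoc j', hj', Category.assoc, Category.assoc,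
      hjf, hc, ← Category.assoc, ← Spec.map_comp]
    refine congrArg (fun t => Spec.map t ≫ jA) (CommRingCat.hom_ext (RingHom.ext fun r => ?_))
    exact ψ.commutes r
  obtain ⟨c, hc₀⟩ := hK
  have hωb : ∃ c, ((DCoh.tildeD (CommRingCat.of A)).obj ω).IsGE c := by
    refine ⟨c, SupportsBdd.isGE_of_iso ?_ eω⟩
    exact (DerivedCategory.isGE_iff _ _).2 fun i hi =>
      ((Scheme.Modules.restrictFunctor jA).map_isZero
        ((DerivedCategory.isGE_iff _ _).1 hc₀ i hi)).of_iso (Perfect.Coherent.homologyIso jA _ i)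
  obtain ⟨e⟩ := nonempty_chart_model g _ adjb j' ψ.toRingHom hψ hj adjψ ω hωb
  let eK : (resJ jA).obj K ≅ (T (CommRingCat.of A)).obj ω := (ObjectProperty.fullyFaithfulι _).preimageIso eω
  let iL := (DMod.FlatHom.isoLBaseChange A (MvPolynomial (Fin n) A)).app ω
  obtain ⟨s⟩ := nonempty_shift_adjR ψ.toRingHom adjψ
    ((DRing.LBaseChange (algebraMap A (MvPolynomial (Fin n) A))).obj ω) (n : ℤ)
  exact ⟨(compIso' j jX rfl).app _ ≪≫ ((compIso' j' W.ι hj').symm.app _) ≪≫
    (DCoh.restrictD j').mapIso (esq.app ⟨K, c, hc₀⟩ ≪≫ (ObjectProperty.ι _).mapIso (b.mapIso eK)) ≪≫ e ≪≫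
    (DCoh.tildeD (CommRingCat.of B)).mapIso
      (Rψ.mapIso ((shiftFunctor _ (n : ℤ)).mapIso iL.symm) ≪≫ s)⟩

/-- The structure sheaf restricts to the module `A`. -/
theorem nonempty_one_chart {A : Type u} [CommRing A] (jA : Spec (CommRingCat.of A) ⟶ Y) [IsOpenImmersion jA]
    {O : DCoh.DQCoh Y} (hO : Nonempty (O.obj ≅ DCoh.inD Y (Coh.structureModule Y))) :
    Nonempty ((DCoh.restrictD jA).obj O.obj ≅ (DCoh.tildeD (CommRingCat.of A)).obj (Dual.inD A A)) := by
  obtain ⟨o⟩ := hO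
  exact ⟨(DCoh.restrictD jA).mapIso o ≪≫ CompactUnit.restrictOneIso jA ≪≫
    (Groth.Agent.H83.ProjPCCrit.oneShiftIso (A := A) 0 0 rfl ≪≫ (shiftFunctorZero _ ℤ).app _).symm⟩

theorem exists_isGE_one {O : DCoh.DQCoh Y} (hO : Nonempty (O.obj ≅ DCoh.inD Y (Coh.structureModule Y))) :
    ∃ c, O.obj.IsGE c := by
  obtain ⟨o⟩ := hO
  exact ⟨0, SupportsBdd.isGE_of_iso inferInstance o.symm⟩

/-- Affine charts with a presentation through every point. -/
theorem exists_chart [IsNoetherian Y] (f : X ⟶ Y) [LocallyOfFiniteType f] (x : X) :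
    ∃ (A B : Type u) (_ : CommRing A) (_ : CommRing B) (_ : Algebra A B) (_ : IsNoetherianRing A)
      (_ : IsNoetherianRing B) (_ : Algebra.FiniteType A B) (jA : Spec (CommRingCat.of A) ⟶ Y)
      (_ : IsOpenImmersion jA) (j : Spec (CommRingCat.of B) ⟶ X) (_ : IsOpenImmersion j)
      (p : PrimeSpectrum B), j p = x ∧
        j ≫ f = Spec.map (CommRingCat.ofHom (algebraMap A B)) ≫ jA := by
  obtain ⟨V, hV, hxV, -⟩ := exists_isAffineOpen_mem_and_subset (X := Y) (x := f x) (U := ⊤) trivial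
  obtain ⟨U, hU, hxU, hUV⟩ := exists_isAffineOpen_mem_and_subset (X := X) (x := x) (U := f ⁻¹ᵁ V) hxV
  let φ := f.appLE V U hUV
  letI : Algebra Γ(Y, V) Γ(X, U) := φ.hom.toAlgebra
  haveI : IsNoetherianRing Γ(Y, V) := IsLocallyNoetherian.component_noetherian ⟨V, hV⟩
  have hft : φ.hom.FiniteType := LocallyOfFiniteType.finiteType_appLE f hV hU hUV
  haveI : Algebra.FiniteType Γ(Y, V) Γ(X, U) := hft
  haveI : IsNoetherianRing Γ(X, U) := Algebra.FiniteType.isNoetherianRing Γ(Y, V) Γ(X, U)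
  refine ⟨Γ(Y, V), Γ(X, U), inferInstance, inferInstance, inferInstance, inferInstance, inferInstance,
    inferInstance, hV.fromSpec, inferInstance, hU.fromSpec, inferInstance, hU.primeIdealOf ⟨x, hxU⟩,
    hU.fromSpec_primeIdealOf ⟨x, hxU⟩, ?_⟩
  exact (hV.SpecMap_appLE_fromSpec f hU hUV).symm

end Groth.Agent.Lib.RightAdjCoh.Chart

namespace Groth.Agent.Lib.RightAdjCoh.Chart

open Groth.Agent.Lib

variable {X Y : Scheme.{u}} [∀ (R : CommRingCat.{u}), PreservesFiniteLimits (tilde.functor R)]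

/-- Stalks on a chart are localizations. -/
theorem nontrivial_localized_of_stalk {B : Type u} [CommRing B] {K : DCoh.D X}
    (j : Spec (CommRingCat.of B) ⟶ X) [IsOpenImmersion j] {M : Dual.D B}
    (e : (DCoh.restrictD j).obj K ≅ (DCoh.tildeD (CommRingCat.of B)).obj M) (i : ℤ) (p : PrimeSpectrum B)
    (h : Nontrivial ((DCoh.HD K i).presheaf.stalk (j p))) :
    Nontrivial (LocalizedModule p.asIdeal.primeCompl (Dual.HD B M i)) :=
  Module.mem_support_iff.1 ((DualSch.Affine.nontrivial_stalk_iff j e i p).1 h)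

/-- Fibre dimensions on a chart. -/
theorem fibreDimAt_chart {A B : Type u} [CommRing A] [CommRing B] [Algebra A B] [Algebra.FiniteType A B]
    (f : X ⟶ Y) [LocallyOfFiniteType f] (jA : Spec (CommRingCat.of A) ⟶ Y) [IsOpenImmersion jA]
    (j : Spec (CommRingCat.of B) ⟶ X) [IsOpenImmersion j]
    (hc : j ≫ f = Spec.map (CommRingCat.ofHom (algebraMap A B)) ≫ jA) (p : PrimeSpectrum B) :
    FlatMor.fibreDimAt (Spec.map (CommRingCat.ofHom (algebraMap A B))) p = Dual3.localFibreDim f (j p) := by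
  rw [GorenMor.AffineSpace.localFibreDim_eq, ← H46.DimData.fibreDimAt_eq]
  exact (FibreDim.Chart.fibreDimAt_eq_dimAt (Spec.map (CommRingCat.ofHom (algebraMap A B)))
      (𝟙 _) (𝟙 _) (by simp) p).trans (FibreDim.Chart.fibreDimAt_eq_dimAt f jA j hc.symm p).symm

end Groth.Agent.Lib.RightAdjCoh.Chart
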