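import Groth.Agent.Lib.DualSch.StalkLocal
import Groth.Agent.Lib.DualSch.Affine
import Groth.Agent.Lib.DMod.LocLoc
import Groth.Prelude.Def_CAlg

/-!
# Serre's condition at stalks through charts
-/

set_option autoImplicit false
set_option linter.style.haveILetI false

universe u

open CategoryTheory CategoryTheory.Limits AlgebraicGeometry

attribute [local instance] HasDerivedCategory.standard

namespace Groth.Agent.Lib.RightAdjCoh.StalkSk

open Groth.Agent.Lib Modules StalkModule

/-- Depth and dimension of the localization at a prime do not depend on the model. -/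
theorem invariants_eq {B : Type u} [CommRing B] (q : Ideal B) [q.IsPrime] {L : Type u} [CommRing L]
    [IsLocalRing L] [Algebra B L] [IsLocalization.AtPrime L q] {H : Type u} [AddCommGroup H] [Module B H]
    {N : Type u} [AddCommGroup N] [Module B N] [Module L N] [IsScalarTower B L N]
    (f : H →ₗ[B] N) [IsLocalizedModule q.primeCompl f] :
    LocCoh.depth L N = LocCoh.depth (Localization.AtPrime q) (LocalizedModule q.primeCompl H) ∧
      Module.supportDim L N =
        Module.supportDim (Localization.AtPrime q) (LocalizedModule q.primeCompl H) := by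
  let Bq := Localization.AtPrime q
  let e : Bq ≃ₐ[B] L := IsLocalization.algEquiv q.primeCompl Bq L
  letI : Algebra Bq L := e.toRingEquiv.toRingHom.toAlgebra
  letI : Module Bq N := Module.compHom N e.toRingEquiv.toRingHom
  haveI : IsScalarTower Bq L N := IsScalarTower.of_algebraMap_smul fun _ _ => rfl
  haveI : IsScalarTower B Bq N := IsScalarTower.of_algebraMap_smul fun b x => by
    show e (algebraMap B Bq b) • x = b • x
    rw [e.commutes, algebraMap_smul]
  have hbij : Function.Bijective (algebraMap Bq L) := e.bijective
  let ι : LocalizedModule q.primeCompl H ≃ₗ[Bq] N :=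
    (IsLocalizedModule.iso q.primeCompl f).extendScalarsOfIsLocalization q.primeCompl Bq
  exact ⟨(DMod.LocLoc.depth_eq hbij N).trans (Groth.Agent.Lib.Depth.Basic.depth_congr ι).symm,
    (DMod.LocLoc.supportDim_eq hbij N).trans (Module.supportDim_eq_of_equiv ι).symm⟩

/-- `(S_k)` is invariant under isomorphisms. -/
theorem hasSk_congr {C : Type u} [CommRing C] {N N' : Type u} [AddCommGroup N] [Module C N]
    [AddCommGroup N'] [Module C N'] (e : N ≃ₗ[C] N') (k : ℕ) (h : LocCoh.HasSk k C N) :
    LocCoh.HasSk k C N' := by
  intro q _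
  haveI : IsLocalizedModule q.primeCompl
      ((LocalizedModule.mkLinearMap q.primeCompl N').comp e.toLinearMap) :=
    IsLocalizedModule.of_linearEquiv_right q.primeCompl (LocalizedModule.mkLinearMap q.primeCompl N') e
  obtain ⟨h1, h2⟩ := invariants_eq q (L := Localization.AtPrime q)
    ((LocalizedModule.mkLinearMap q.primeCompl N').comp e.toLinearMap)
  rw [h1, h2]
  exact h q

/-- A localization of a localization. -/
theorem invariants_comp {B : Type u} [CommRing B] (M : Submonoid B) {C : Type u} [CommRing C]
    [Algebra B C] [IsLocalization M C] {H : Type u} [AddCommGroup H] [Module B H]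
    {N : Type u} [AddCommGroup N] [Module B N] [Module C N] [IsScalarTower B C N]
    (f : H →ₗ[B] N) [IsLocalizedModule M f] (q' : Ideal C) [q'.IsPrime] :
    LocCoh.depth (Localization.AtPrime q') (LocalizedModule q'.primeCompl N) =
        LocCoh.depth (Localization.AtPrime (q'.comap (algebraMap B C)))
          (LocalizedModule (q'.comap (algebraMap B C)).primeCompl H) ∧
      Module.supportDim (Localization.AtPrime q') (LocalizedModule q'.primeCompl N) =
        Module.supportDim (Localization.AtPrime (q'.comap (algebraMap B C)))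
          (LocalizedModule (q'.comap (algebraMap B C)).primeCompl H) := by
  let q := q'.comap (algebraMap B C)
  let L := Localization.AtPrime q'
  haveI : IsLocalization.AtPrime L q :=
    IsLocalization.isLocalization_isLocalization_atPrime_isLocalization M L q'
  haveI : IsLocalizedModule q.primeCompl
      (((LocalizedModule.mkLinearMap q'.primeCompl N).restrictScalars B) ∘ₗ f) :=
    (isLocalizedModule_iff_isBaseChange q.primeCompl L _).2
      ((IsLocalizedModule.isBaseChange M C f).comp
        (IsLocalizedModule.isBaseChange q'.primeCompl L (LocalizedModule.mkLinearMap q'.primeCompl N)))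
  exact invariants_eq q (L := L) (((LocalizedModule.mkLinearMap q'.primeCompl N).restrictScalars B) ∘ₗ f)

/-- `(S_k)` passes from a localization to the local ring at a prime surviving in it. -/
theorem hasSk_atPrime {B : Type u} [CommRing B] (P : Ideal B) [P.IsPrime] (M : Submonoid B)
    (hM : Disjoint (M : Set B) P) {H : Type u} [AddCommGroup H] [Module B H] (k : ℕ)
    (h : LocCoh.HasSk k (Localization M) (LocalizedModule M H))
    {C : Type u} [CommRing C] [Algebra B C] [IsLocalization.AtPrime C P]
    {N : Type u} [AddCommGroup N] [Module B N] [Module C N] [IsScalarTower B C N]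
    (f : H →ₗ[B] N) [IsLocalizedModule P.primeCompl f] : LocCoh.HasSk k C N := by
  intro q' hq'
  obtain ⟨h1, h2⟩ := invariants_comp P.primeCompl f q'
  rw [h1, h2]
  let q := q'.comap (algebraMap B C)
  have hqP : q ≤ P := fun b hb => by
    by_contra hbP
    exact hq'.ne_top (Ideal.eq_top_of_isUnit_mem _ hb (IsLocalization.map_units C (⟨b, hbP⟩ : P.primeCompl)))
  have hdisj : Disjoint (M : Set B) q := hM.mono_right hqP
  let q'' : Ideal (Localization M) := q.map (algebraMap B (Localization M))
  haveI : q''.IsPrime := IsLocalization.isPrime_of_isPrime_disjoint M (Localization M) q inferInstance hdisj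
  have hc : q''.comap (algebraMap B (Localization M)) = q :=
    IsLocalization.under_map_of_isPrime_disjoint M (Localization M) (inferInstance : q.IsPrime) hdisj
  obtain ⟨h3, h4⟩ := invariants_comp M (C := Localization M) (LocalizedModule.mkLinearMap M H) q''
  have := h q''
  rw [h3, h4] at this
  have key : ∀ (I : Ideal B) [I.IsPrime], I = q →
      min (k : WithBot ℕ∞) (Module.supportDim (Localization.AtPrime I) (LocalizedModule I.primeCompl H)) ≤
        ((LocCoh.depth (Localization.AtPrime I) (LocalizedModule I.primeCompl H) : ℕ∞) : WithBot ℕ∞) →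
      min (k : WithBot ℕ∞) (Module.supportDim (Localization.AtPrime q) (LocalizedModule q.primeCompl H)) ≤
        ((LocCoh.depth (Localization.AtPrime q) (LocalizedModule q.primeCompl H) : ℕ∞) : WithBot ℕ∞) := by
    intro I _ hI h'
    subst hI
    exact h'
  exact key _ hc this

section Chart

variable {X : Scheme.{u}} {B : Type u} [CommRing B] (j : Spec (CommRingCat.of B) ⟶ X)
  [IsOpenImmersion j] [PreservesFiniteLimits (Scheme.Modules.restrictFunctor j)]
  [PreservesFiniteLimits (tilde.functor (CommRingCat.of B))] {K : DCoh.D X} {ω : Dual.D B}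
  (e : (DCoh.restrictD j).obj K ≅ (DCoh.tildeD (CommRingCat.of B)).obj ω)

include e in
/-- `(S_k)` at a stalk of a cohomology sheaf from a localization of the cohomology module. -/
theorem hasSk_stalk (i : ℤ) (P : PrimeSpectrum B) (M : Submonoid B)
    (hM : Disjoint (M : Set B) P.asIdeal) (k : ℕ)
    (h : LocCoh.HasSk k (Localization M) (LocalizedModule M (Dual.HD B ω i))) :
    LocCoh.HasSk k (X.presheaf.stalk (j P)) ((DCoh.HD K i).presheaf.stalk (j P)) := by
  let z : ↥(Spec (CommRingCat.of B)) := P
  show LocCoh.HasSk k (X.presheaf.stalk (j z)) ((DCoh.HD K i).presheaf.stalk (j z))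
  let R := CommRingCat.of B
  let H : Type u := Dual.HD B ω i
  let C' : Type u := (Spec R).presheaf.stalk z
  let Cx : Type u := X.presheaf.stalk (j z)
  let σX : Cx ≃+* C' := (asIso (j.stalkMap z)).commRingCatIsoToRingEquiv
  obtain ⟨φ⟩ := DualSch.Affine.nonempty_HD_iso j e i
  let Mo : ModuleCat.{u} B := ModuleCat.of B H
  let G := ModuleCat.restrictScalars.{u} σX.toRingHom
  let E : G.obj ((ModuleCat.extendScalars.{u, u, u} (DerivedOX.TildeStalk.σ R z)).obj Mo) ≅
      (stalkModFunctor X (j z)).obj (DCoh.HD K i) :=
    G.mapIso ((DerivedOX.TildeStalk.tildeStalkIso R z).app Mo ≪≫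
      (stalkModFunctor (Spec R) z).mapIso φ.symm) ≪≫ (DualSch.StalkLocal.stalkModIso j z).app (DCoh.HD K i)
  refine hasSk_congr E.toLinearEquiv k ?_
  letI : Algebra B C' := StructureSheaf.stalkAlgebra R z
  haveI : IsLocalization.AtPrime C' P.asIdeal := StructureSheaf.IsLocalization.to_stalk R z
  letI : Algebra B Cx := (σX.symm.toRingHom.comp (algebraMap B C')).toAlgebra
  haveI : IsLocalization.AtPrime Cx P.asIdeal :=
    IsLocalization.isLocalization_of_algEquiv P.asIdeal.primeCompl
      (AlgEquiv.ofRingEquiv (f := σX.symm) fun _ => rfl : C' ≃ₐ[B] Cx)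
  show LocCoh.HasSk k Cx (G.obj ((ModuleCat.extendScalars.{u, u, u} (DerivedOX.TildeStalk.σ R z)).obj Mo))
  let N0 : Type u := TensorProduct B C' H
  letI : Module Cx N0 := Module.compHom N0 σX.toRingHom
  haveI : IsScalarTower B Cx N0 := IsScalarTower.of_algebraMap_smul fun b x => by
    show σX (σX.symm (algebraMap B C' b)) • x = b • x
    rw [RingEquiv.apply_symm_apply, algebraMap_smul]
  haveI : IsLocalizedModule P.asIdeal.primeCompl (TensorProduct.mk B C' H 1) :=
    (isLocalizedModule_iff_isBaseChange P.asIdeal.primeCompl C' _).2 (TensorProduct.isBaseChange B H C')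
  exact hasSk_atPrime P.asIdeal M hM k h (C := Cx) (N := N0) (TensorProduct.mk B C' H 1)

end Chart

end Groth.Agent.Lib.RightAdjCoh.StalkSk
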